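import Cfsg.Agent.H83.StarBlocks
import Cfsg.Agent.H83.StarLocal
import Cfsg.Agent.H83.StarFree
import Cfsg.Agent.H82.MaxPair
import Cfsg.Agent.H82.PairNilpotent

/-!
Brauer pairs below a pair at a normal subgroup: nilpotency only depends on the stabilizer of that
pair.
-/

set_option linter.style.haveILetI false

namespace Cfsg.Agent.H81.EqualDegrees

open H83 MonoidAlgebra BlockBasic CharBasic

universe u

variable {p : ℕ} [hp : Fact p.Prime] {M : Ideal Cfsg.AlgInt} {G : Type u} [Group G] [Fintype G]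

theorem cj_ebar_conjSet (hM : Cfsg.IsPModular p M) {Q : Subgroup G} {y : G}
    (hy : y ∈ Subgroup.normalizer (Q : Set G))
    (f : Set (Cfsg.IrrCharacter (Subgroup.centralizer (Q : Set G)))) :
    Star.cj y (Star.ebar hM (Subgroup.centralizer (Q : Set G)) f) =
      Star.ebar hM (Subgroup.centralizer (Q : Set G))
        (H82.conjSet (Subgroup.centralizer (Q : Set G)) y f) := by
  rw [Star.ebar, Star.ebar, ← Star.red_cj, ← Star.cj_blockUp (p := p)]
  exact congrArg (red hM) (Star.blockUp_eq_of_pair_eq (H82.conjPair_of_normalizes f hy))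

/-- The pairs above a pair at a subgroup normalized by the centralizer form one orbit. -/
theorem exists_conj_of_normal_above (hM : Cfsg.IsPModular p M) {Q Q1 : Subgroup G}
    {f : Set (Cfsg.IrrCharacter (Subgroup.centralizer (Q : Set G)))}
    {f1 f1' : Set (Cfsg.IrrCharacter (Subgroup.centralizer (Q1 : Set G)))}
    (h : Cfsg.IsNormalSubpair p M Q f Q1 f1) (h' : Cfsg.IsNormalSubpair p M Q f Q1 f1')
    (hK : Subgroup.centralizer (Q : Set G) ≤ Subgroup.normalizer (Q1 : Set G)) :
    ∃ y ∈ Subgroup.centralizer (Q : Set G),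
      H82.conjPair y ⟨Q1, f1⟩ = ⟨Q1, f1'⟩ := by
  classical
  obtain ⟨hQf, hQ1, hle, -, hst, -⟩ := id h
  have hQ1' := h'.2.1
  have hfT : Star.InvBy Q1 (Star.ebar hM (Subgroup.centralizer (Q : Set G)) f) :=
    (Star.invBy_of_coeff fun x hx g => H82.isInvElt_blockUp_of_stabilizes hM hQf.2 hst x hx g).red
  have hKsub : Subgroup.centralizer (Q1 : Set G) ≤ Subgroup.centralizer (Q : Set G) :=
    H82.centralizer_mono hle
  set a := Star.ebar hM (Subgroup.centralizer (Q1 : Set G)) f1 with ha
  set O : Finset (MonoidAlgebra (Residue hM) G) :=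
    Finset.univ.image (fun y : Subgroup.centralizer (Q : Set G) => Star.cj (y : G) a) with hO
  have hmem : ∀ o ∈ O, ∃ y ∈ Subgroup.centralizer (Q : Set G),
      o = Star.ebar hM (Subgroup.centralizer (Q1 : Set G))
        (H82.conjSet (Subgroup.centralizer (Q1 : Set G)) y f1) := by
    intro o ho
    obtain ⟨y, -, rfl⟩ := Finset.mem_image.1 ho
    exact ⟨y, y.2, cj_ebar_conjSet hM (hK y.2) f1⟩
  have hblk : ∀ y ∈ Subgroup.centralizer (Q : Set G), Cfsg.IsPBlock M
      (H82.conjSet (Subgroup.centralizer (Q1 : Set G)) y f1) := fun y hy =>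
    H82.isPBlock_conjSet (H82.normalizer_le_normalizer_centralizer Q1 (hK hy)) hQ1.2
  have haO : a ∈ O := Finset.mem_image.2 ⟨1, Finset.mem_univ _, Star.cj_one_apply a⟩
  set s := ∑ o ∈ O, o with hs
  have horth : ∀ o ∈ O, ∀ o' ∈ O, o * o' = if o = o' then o else 0 := by
    intro o ho o' ho'
    obtain ⟨y, hy, rfl⟩ := hmem o ho
    obtain ⟨y', hy', rfl⟩ := hmem o' ho'
    split_ifs with heq
    · rw [← heq, Star.ebar_idem hM _ (hblk y hy)]
    · exact Star.ebar_mul_of_ne hM _ (hblk y hy) (hblk y' hy') fun hh => heq (by rw [hh])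
  have hso : ∀ o ∈ O, s * o = o := fun o ho => by
    rw [hs, Finset.sum_mul, Finset.sum_eq_single o (fun o' ho' hne => by
      rw [horth o' ho' o ho, if_neg hne]) (fun h => absurd ho h), horth o ho o ho, if_pos rfl]
  have hss : s * s = s := by
    conv_lhs => arg 2; rw [hs]
    rw [Finset.mul_sum]
    exact Finset.sum_congr rfl hso
  have hssupp : Star.SuppIn (Subgroup.centralizer (Q1 : Set G)) s := fun g hg => by
    rw [hs, coeff_sum, Finsupp.finsetSum_apply]
    refine Finset.sum_eq_zero fun o ho => ?_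
    obtain ⟨y, -, rfl⟩ := hmem o ho
    exact Star.suppIn_ebar hM _ _ g hg
  have hsinv : Star.InvBy (Subgroup.centralizer (Q : Set G)) s := by
    intro k hk
    rw [hs, map_sum]
    refine Finset.sum_nbij (Star.cj k) (fun o ho => ?_) (fun o _ o' _ he => ?_) (fun o ho => ?_)
      fun o _ => rfl
    · obtain ⟨y, -, rfl⟩ := Finset.mem_image.1 ho
      refine Finset.mem_image.2 ⟨⟨k, hk⟩ * y, Finset.mem_univ _, ?_⟩
      rw [Subgroup.coe_mul, Star.cj_mul_left]
    · have := congrArg (Star.cj k⁻¹) he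
      rwa [← Star.cj_mul_left, ← Star.cj_mul_left, inv_mul_cancel, Star.cj_one_apply,
        Star.cj_one_apply] at this
    · obtain ⟨y, -, rfl⟩ := Finset.mem_image.1 ho
      refine ⟨Star.cj (k⁻¹ * y) a, Finset.mem_image.2 ⟨⟨k, hk⟩⁻¹ * y, Finset.mem_univ _,
        by rw [Subgroup.coe_mul, Subgroup.coe_inv]⟩, ?_⟩
      rw [← Star.cj_mul_left, mul_inv_cancel_left]
  have htr : ∀ {b}, Cfsg.IsNormalSubpair p M Q f Q1 b →
      Star.trunc (Subgroup.centralizer (Q1 : Set G))
          (s * Star.ebar hM (Subgroup.centralizer (Q : Set G)) f) *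
        Star.ebar hM (Subgroup.centralizer (Q1 : Set G)) b =
      s * Star.ebar hM (Subgroup.centralizer (Q1 : Set G)) b := fun {b} hb => by
    rw [Star.trunc_mul (Star.residue_p_eq_zero hM) hQ1.1 hssupp.invBy hfT,
      Star.trunc_of_suppIn hssupp, mul_assoc, Star.trunc_ebar_mul_of_normal hM hb]
  have hsf : s * Star.ebar hM (Subgroup.centralizer (Q : Set G)) f =
      Star.ebar hM (Subgroup.centralizer (Q : Set G)) f := by
    refine (Star.mul_ebar_eq hM hQf.2 (hssupp.mono hKsub) hsinv hss).resolve_left fun h0 => ?_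
    have := htr h
    rw [h0, Star.trunc_zero, zero_mul, ← ha, hso a haO] at this
    exact Star.ebar_ne_zero hM _ hQ1.2 this.symm
  by_contra hno
  have hzero : s * Star.ebar hM (Subgroup.centralizer (Q1 : Set G)) f1' = 0 := by
    rw [hs, Finset.sum_mul]
    refine Finset.sum_eq_zero fun o ho => ?_
    obtain ⟨y, hy, rfl⟩ := hmem o ho
    refine Star.ebar_mul_of_ne hM _ (hblk y hy) hQ1'.2 fun hh => hno ⟨y, hy, ?_⟩
    rw [H82.conjPair_of_normalizes f1 (hK hy), hh]
  have h2 := htr h'
  rw [hsf, Star.trunc_ebar_mul_of_normal hM h', hzero] at h2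
  exact Star.ebar_ne_zero hM _ hQ1'.2 h2

/-- The pairs at a normal subgroup above a given pair are conjugate under its centralizer. -/
theorem exists_conj_above (hM : Cfsg.IsPModular p M) {D : Subgroup G} [D.Normal]
    (hDp : IsPGroup p D) :
    ∀ (m : ℕ) (Q : Subgroup G), Nat.card D - Nat.card Q = m →
      ∀ (f : Set (Cfsg.IrrCharacter (Subgroup.centralizer (Q : Set G))))
        (b b' : Set (Cfsg.IrrCharacter (Subgroup.centralizer (D : Set G)))),
        Cfsg.IsPBlock M b → Cfsg.IsPBlock M b' → Cfsg.SubpairLE p M Q f D b →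
          Cfsg.SubpairLE p M Q f D b' →
            ∃ y ∈ Subgroup.centralizer (Q : Set G), H82.conjPair y ⟨D, b⟩ = ⟨D, b'⟩ := by
  haveI : Group.IsNilpotent D := hDp.isNilpotent
  intro m
  induction m using Nat.strong_induction_on with
  | _ m ih =>
    intro Q hm f b b' hb hb' hle hle'
    have hQD : Q ≤ D := H82.le_of_subpairLE hle
    have hDb : Cfsg.IsBrauerPair p M D b := ⟨hDp, hb⟩
    have hDb' : Cfsg.IsBrauerPair p M D b' := ⟨hDp, hb'⟩
    rcases eq_or_lt_of_le hQD with heq | hlt
    · subst heq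
      have h1 := H82.subpair_unique hM hDb hle Relation.ReflTransGen.refl
      have h2 := H82.subpair_unique hM hDb' hle' Relation.ReflTransGen.refl
      refine ⟨1, Subgroup.one_mem _, ?_⟩
      rw [H82.conjPair_one, ← h1, h2]
    set Q1 := D ⊓ Subgroup.normalizer (Q : Set G) with hQ1
    have hQQ1 : Q < Q1 := H82.lt_inf_normalizer hlt
    obtain ⟨f1, hf1, hle1⟩ := H82.exists_subpair hM hDb (inf_le_left : Q1 ≤ D)
    obtain ⟨f1', hf1', hle1'⟩ := H82.exists_subpair hM hDb' (inf_le_left : Q1 ≤ D)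
    have hn := H82.isNormalSubpair_of_le hM hf1 inf_le_right
      (H82.subpairLE_of_le hM hDb hQQ1.le hle hle1)
    have hn' := H82.isNormalSubpair_of_le hM hf1' inf_le_right
      (H82.subpairLE_of_le hM hDb' hQQ1.le hle' hle1')
    have hK : Subgroup.centralizer (Q : Set G) ≤ Subgroup.normalizer (Q1 : Set G) := by
      intro k hk
      have hkN := Subgroup.centralizer_le_normalizer (Q : Set G) hk
      refine Subgroup.mem_normalizer_iff.2 fun g => ?_
      rw [hQ1]
      simp only [Subgroup.mem_inf]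
      refine and_congr ⟨fun hg => ‹D.Normal›.conj_mem g hg k, fun hg => ?_⟩
        ⟨fun hg => Subgroup.mul_mem _ (Subgroup.mul_mem _ hkN hg) (Subgroup.inv_mem _ hkN),
          fun hg => ?_⟩
      · have := ‹D.Normal›.conj_mem _ hg k⁻¹
        simpa [mul_assoc] using this
      · have := Subgroup.mul_mem _ (Subgroup.mul_mem _ (Subgroup.inv_mem _ hkN) hg) hkN
        simpa [mul_assoc] using this
    obtain ⟨y, hy, hyf⟩ := exists_conj_of_normal_above hM hn hn' hK
    have hyD : y ∈ Subgroup.normalizer (D : Set G) := by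
      rw [Subgroup.normalizer_eq_top]; trivial
    have h2 := H82.subpairLE_conjPair hM y hle1
    rw [hyf, H82.conjPair_of_normalizes b hyD] at h2
    have hlt' : Nat.card Q < Nat.card Q1 := by
      rcases (Subgroup.card_le_of_le hQQ1.le).lt_or_eq with h | h
      · exact h
      · exact absurd (Subgroup.eq_of_le_of_card_ge hQQ1.le h.ge) hQQ1.ne
    have hle2 : Nat.card Q1 ≤ Nat.card D := Subgroup.card_le_of_le inf_le_left
    obtain ⟨y', hy', hyb⟩ := ih (Nat.card D - Nat.card Q1) (by omega) Q1 rfl f1'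
      _ b' (H82.isPBlock_conjSet (H82.normalizer_le_normalizer_centralizer D hyD) hb) hb' h2 hle1'
    refine ⟨y' * y, Subgroup.mul_mem _ (H82.centralizer_mono hQQ1.le hy') hy, ?_⟩
    rw [H82.conjPair_mul, H82.conjPair_of_normalizes b hyD, hyb]

/-- The regular part of an element is one of its powers. -/
theorem pReg_mem_zpowers (g : G) : pReg (p := p) g ∈ Subgroup.zpowers g := by
  obtain ⟨k, hk⟩ := exists_orderOf_pPart (p := p) g
  have h1 : g ^ p ^ k = pReg (p := p) g ^ p ^ k := by
    conv_lhs => rw [← pPart_mul_pReg (p := p) g, (commute_pPart_pReg g).mul_pow, ← hk,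
      pow_orderOf_eq_one, one_mul]
    rw [hk]
  obtain ⟨m, hm⟩ := exists_pow_eq_self_of_coprime (x := pReg (p := p) g) (n := p ^ k)
    (((hp.out.coprime_iff_not_dvd).2 (not_dvd_orderOf_pReg g)).pow_left k)
  rw [← hm, ← h1]
  exact Subgroup.pow_mem _ (Subgroup.pow_mem _ (Subgroup.mem_zpowers g) _) _

/-- A block with normal defect group is nilpotent when the regular stabilizers centralize it. -/
theorem isNilpotentBlock_of_normal (hM : Cfsg.IsPModular p M) {B : Set (Cfsg.IrrCharacter G)}
    {D : Subgroup G} [D.Normal]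
    {e : Set (Cfsg.IrrCharacter (Subgroup.centralizer (D : Set G)))}
    (hmax : Cfsg.IsMaximalBrauerPair p M B D e)
    (key : ∀ s : G, H82.conjPair s ⟨D, e⟩ = ⟨D, e⟩ → ¬ p ∣ orderOf s →
      s ∈ Subgroup.centralizer (D : Set G)) : Cfsg.IsNilpotentBlock p M B := by
  refine H82.isNilpotentBlock_of_below hM hmax fun Q f hf hle x hxN hxs hreg => ?_
  have hDp := hmax.1.1.1
  have he := hmax.1.1.2
  have hxD : x ∈ Subgroup.normalizer (D : Set G) := by
    rw [Subgroup.normalizer_eq_top]; trivial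
  have hst := (H82.stabilizesBlock_iff_conjPair hM hf).mp ⟨hxN, hxs⟩
  have h2 := H82.subpairLE_conjPair hM x hle
  rw [hst, H82.conjPair_of_normalizes e hxD] at h2
  obtain ⟨y, hy, hye⟩ := exists_conj_above hM hDp _ Q rfl f _ e
    (H82.isPBlock_conjSet (H82.normalizer_le_normalizer_centralizer D hxD) he) he h2 hle
  rw [← H82.conjPair_of_normalizes e hxD, ← H82.conjPair_mul] at hye
  set t := y * x with ht
  have hs : pReg (p := p) t ∈ Subgroup.centralizer (D : Set G) := by
    refine key _ ?_ (not_dvd_orderOf_pReg t)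
    exact H82.mem_pairStab hM he _ |>.mpr ((H82.stabilizesBlock_iff_conjPair hM he).mpr hye) |>
      fun h => (H82.stabilizesBlock_iff_conjPair hM he).mp ((H82.mem_pairStab hM he _).mp
        ((Subgroup.zpowers_le.2 h) (pReg_mem_zpowers t)))
  have hQD : Q ≤ D := H82.le_of_subpairLE hle
  have hsQ := H82.centralizer_mono hQD hs
  obtain ⟨k, hk⟩ := exists_orderOf_pPart (p := p) t
  have huN : pPart (p := p) t ∈ Subgroup.normalizer (Q : Set G) := by
    have htN : t ∈ Subgroup.normalizer (Q : Set G) :=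
      Subgroup.mul_mem _ (Subgroup.centralizer_le_normalizer _ hy) hxN
    have h3 : pPart (p := p) t = t * (pReg (p := p) t)⁻¹ :=
      eq_mul_inv_of_mul_eq (pPart_mul_pReg t)
    rw [h3]
    exact Subgroup.mul_mem _ htN (Subgroup.inv_mem _ (Subgroup.centralizer_le_normalizer _ hsQ))
  refine H82.mem_centralizer_of_coprime (u := pPart (p := p) t)
    ⟨k, by rw [← hk, pow_orderOf_eq_one]⟩ (fun q hq => ?_) hreg hxN huN
  have h1 : y * (x * q * x⁻¹) * y⁻¹ = x * q * x⁻¹ := by
    rw [← Subgroup.mem_centralizer_iff.1 hy _ ((Subgroup.mem_normalizer_iff.1 hxN q).1 hq),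
      mul_inv_cancel_right]
  have h4 : pReg (p := p) t * q * (pReg (p := p) t)⁻¹ = q := by
    rw [← Subgroup.mem_centralizer_iff.1 hsQ q hq, mul_inv_cancel_right]
  calc x * q * x⁻¹ = t * q * t⁻¹ := by rw [← h1, ht]; group
    _ = pPart (p := p) t * (pReg (p := p) t * q * (pReg (p := p) t)⁻¹) * (pPart (p := p) t)⁻¹ := by
        conv_lhs => rw [← pPart_mul_pReg (p := p) t]
        group
    _ = _ := by rw [h4]

end Cfsg.Agent.H81.EqualDegrees
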