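import Cfsg.Agent.H81.EqualDegrees.Nilpotent
import Cfsg.Agent.H81.EqualDegrees.NormalPair
import Cfsg.Agent.H24.QuotientDefect
import Cfsg.Agent.H82.NormalP
import Cfsg.Agent.BlockBasic.NormalDefect
import Cfsg.Agent.S0029

/-!
Equal degrees of the height zero characters in a block with normal defect group, through the
quotient by the Frattini subgroup of the defect group.
-/

set_option linter.style.haveILetI false

open scoped ComplexConjugate commutatorElement

namespace Cfsg.Agent.H81.EqualDegrees

open H83 H83.BlockAlgebra MonoidAlgebra BlockBasic CharBasic H24.QuotientDefect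

universe u

variable {p : ℕ} [hp : Fact p.Prime] {M : Ideal Cfsg.AlgInt} {G : Type u} [Group G] [Fintype G]

/-- The push forward to a quotient. -/
noncomputable def push {R : Type*} [CommRing R] (N : Subgroup G) [N.Normal] :
    MonoidAlgebra R G →+* MonoidAlgebra R (G ⧸ N) :=
  MonoidAlgebra.mapDomainRingHom R (QuotientGroup.mk' N)

omit hp in
theorem push_single {R : Type*} [CommRing R] (N : Subgroup G) [N.Normal] (g : G) (r : R) :
    push N (single g r) = single (g : G ⧸ N) r :=
  MonoidAlgebra.mapDomain_single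

omit hp in
theorem eq_sum_single' {R : Type*} [CommRing R] (z : MonoidAlgebra R G) :
    z = ∑ g : G, single g (z.coeff g) := by
  classical
  exact coeff_injective (Finsupp.ext fun y => by simp [coeff_sum, coeff_single, Finsupp.single_apply])

omit hp in
theorem coeff_push {R : Type*} [CommRing R] (N : Subgroup G) [N.Normal] [DecidableEq (G ⧸ N)]
    (z : MonoidAlgebra R G) (q : G ⧸ N) :
    (push N z).coeff q =
      ∑ g ∈ Finset.univ.filter (fun g : G => (QuotientGroup.mk g : G ⧸ N) = q), z.coeff g := by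
  conv_lhs => rw [eq_sum_single' z]
  rw [map_sum, coeff_sum, Finsupp.finsetSum_apply, Finset.sum_filter]
  exact Finset.sum_congr rfl fun g _ => by rw [push_single, coeff_single, Finsupp.single_apply]

omit hp in
theorem isIntElt_push (hM : Cfsg.IsPModular p M) (N : Subgroup G) [N.Normal]
    {z : MonoidAlgebra ℂ G} (hz : IsIntElt M z) : IsIntElt M (push N z) := fun q => by
  classical
  rw [coeff_push]
  exact (locRing hM).sum_mem fun g _ => hz g

omit hp in
theorem red_push (hM : Cfsg.IsPModular p M) (N : Subgroup G) [N.Normal]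
    {z : MonoidAlgebra ℂ G} (hz : IsIntElt M z) : red hM (push N z) = push N (red hM z) := by
  classical
  apply coeff_injective
  ext q
  rw [coeff_red, coeff_push, coeff_push, res_sum hM _ fun g _ => hz g]
  exact Finset.sum_congr rfl fun g _ => (coeff_red hM z g).symm

omit hp in
theorem push_cj {R : Type*} [CommRing R] (N : Subgroup G) [N.Normal] (x : G)
    (z : MonoidAlgebra R G) : push N (Star.cj x z) = Star.cj (x : G ⧸ N) (push N z) := by
  rw [Star.cj_eq_single, Star.cj_eq_single, map_mul, map_mul, push_single, push_single]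
  rfl

omit hp in
theorem suppIn_push {R : Type*} [CommRing R] (N : Subgroup G) [N.Normal] {L : Subgroup (G ⧸ N)}
    {K : Subgroup G} (hKL : ∀ g ∈ K, (g : G ⧸ N) ∈ L) {z : MonoidAlgebra R G}
    (hz : Star.SuppIn K z) : Star.SuppIn L (push N z) := fun q hq => by
  classical
  rw [coeff_push]
  refine Finset.sum_eq_zero fun g hg => hz g fun h => hq ?_
  rw [← (Finset.mem_filter.1 hg).2]
  exact hKL g h

open scoped Classical in
omit hp in
/-- The image of a block idempotent is the idempotent of the deflatable members. -/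
theorem push_blockElem (N : Subgroup G) [N.Normal] [Fintype (G ⧸ N)]
    (B : Set (Cfsg.IrrCharacter G)) :
    push N (blockElem B) = blockElem {ξ : Cfsg.IrrCharacter (G ⧸ N) | infl N ξ ∈ B} := by
  have hc : IsCentralElt (push N (blockElem B)) := isCentralElt_of_comm fun q => by
    obtain ⟨g, rfl⟩ := QuotientGroup.mk'_surjective N q
    show push N (blockElem B) * single (g : G ⧸ N) 1 = single (g : G ⧸ N) 1 * push N (blockElem B)
    rw [← push_single, ← map_mul, ← map_mul, isCentralElt_comm (isCentralElt_blockElem B)]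
  refine eq_of_omega_eq hc (isCentralElt_blockElem _) fun ξ => ?_
  have h1 : ∀ z : MonoidAlgebra ℂ G,
      chiLin (ξ : G ⧸ N → ℂ) (push N z) = chiLin (infl N ξ : G → ℂ) z := by
    intro z
    induction z using MonoidAlgebra.induction_linear with
    | zero => simp [chiLin]
    | add a b ha hb => rw [map_add, chiLin_add, chiLin_add, ha, hb]
    | single g r => rw [push_single, chiLin_single, chiLin_single]; rfl
  rw [omega_blockElem]
  have h2 := omega_blockElem B (infl N ξ)
  rw [omega] at h2 ⊢
  rw [h1, show (ξ : G ⧸ N → ℂ) 1 = (infl N ξ : G → ℂ) 1 from rfl, h2]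
  exact if_congr Iff.rfl rfl rfl

/-- A regular element acting trivially modulo the Frattini subgroup of a `p`-group centralizes
it. -/
theorem mem_centralizer_of_mod_frattini {D : Subgroup G} [D.Normal] (hDp : IsPGroup p D) {s : G}
    (hs : ¬ p ∣ orderOf s)
    (h : ∀ d ∈ D, s * d * s⁻¹ * d⁻¹ ∈ (frattini D).map D.subtype) :
    s ∈ Subgroup.centralizer (D : Set G) := by
  have hN : ((frattini D).map D.subtype).Normal := inferInstance
  obtain ⟨j, hj⟩ := IsPGroup.iff_card.1 (hDp.to_subgroup (frattini D))
  have hzN : Subgroup.zpowers s ≤ Subgroup.normalizer (D : Set G) := by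
    rw [Subgroup.normalizer_eq_top]; exact le_top
  refine (S0029.result (Subgroup.zpowers s) D hzN ?_ ?_) (Subgroup.mem_zpowers s)
  · rw [Nat.card_zpowers, hj]
    exact (Nat.Coprime.pow_left j ((hp.out.coprime_iff_not_dvd).2 hs)).symm
  · intro a ha d hd
    -- everything in the group generated by `s` acts trivially
    let N := (frattini D).map D.subtype
    have hcomm : ∀ b ∈ Subgroup.zpowers s, ∀ d ∈ D,
        Commute (b : G ⧸ N) (d : G ⧸ N) := by
      intro b hb d hd
      have h1 : Commute (s : G ⧸ N) (d : G ⧸ N) := by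
        have := (QuotientGroup.eq_one_iff _).2 (h d hd)
        simp only [QuotientGroup.mk_mul, QuotientGroup.mk_inv] at this
        exact mul_inv_eq_iff_eq_mul.1 (mul_inv_eq_one.1 this)
      obtain ⟨n, rfl⟩ := Subgroup.mem_zpowers_iff.1 hb
      exact h1.zpow_left n
    refine (QuotientGroup.eq_one_iff _).1 ?_
    simp only [QuotientGroup.mk_mul, QuotientGroup.mk_inv]
    rw [(hcomm a ha d hd).eq, mul_inv_cancel_right, mul_inv_cancel]

/-- Elements supported on the centralizer with trivial image are nilpotent. -/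
theorem isNilpotent_of_push_eq_zero (hM : Cfsg.IsPModular p M) (N : Subgroup G) [N.Normal]
    {K : Subgroup G} (hN : IsPGroup p N) (hNK : ∀ n ∈ N, ∀ g ∈ K, n * g = g * n)
    {z : MonoidAlgebra (Residue hM) G} (hz : Star.SuppIn K z) (hz0 : push N z = 0) :
    IsNilpotent z := by
  classical
  obtain ⟨w, rfl⟩ := Star.exists_incl hz
  refine IsNilpotent.map ?_ (Star.incl K)
  haveI : IsAlgClosed (Residue hM) := isAlgClosed_residue hM
  haveI : CharP (Residue hM) p :=
    (CharP.charP_iff_prime_eq_zero hp.out).2 (Star.residue_p_eq_zero hM)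
  haveI : Fintype K := Fintype.ofFinite _
  obtain ⟨W⟩ := SimpleTrace.exists_model (k := Residue hM) (G := K)
  refine W.nil w ?_
  -- the elements of `N` in `K` act trivially on the simple modules
  have hone : ∀ n : K, (n : G) ∈ N → W.map (single n (1 : Residue hM)) = 1 := by
    intro n hn
    rw [← sub_eq_zero, ← map_one W.map, ← map_sub]
    refine (W.map_eq_zero_iff _).2 fun y => ?_
    obtain ⟨j, hj⟩ := H86.pPow_orderOf hN hn
    rw [Subgroup.orderOf_coe] at hj
    let φ : Polynomial (Residue hM) →ₐ[Residue hM] MonoidAlgebra (Residue hM) K :=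
      Polynomial.aeval (single n (1 : Residue hM))
    have hnil : IsNilpotent (single n (1 : Residue hM) - 1) := by
      refine ⟨p ^ j, ?_⟩
      have h : ((Polynomial.X : Polynomial (Residue hM)) - 1) ^ p ^ j =
          Polynomial.X ^ p ^ j - 1 := by rw [sub_pow_char_pow, one_pow]
      have h' := congrArg φ h
      simp only [φ, map_pow, map_sub, Polynomial.aeval_X, map_one] at h'
      rw [h', single_pow, one_pow, ← hj, pow_orderOf_eq_one, ← one_def, sub_self]
    refine Commute.isNilpotent_mul_right ?_ hnil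
    refine Commute.sub_left ?_ (Commute.one_left _)
    induction y using MonoidAlgebra.induction_linear with
    | zero => exact Commute.zero_right _
    | add a b ha hb => exact ha.add_right hb
    | single g r =>
      rw [Commute, SemiconjBy, single_mul_single, single_mul_single, mul_comm r]
      congr 1
      exact Subtype.ext (hNK n hn g g.2)
  let σ : G ⧸ N → K := fun q => if h : ∃ c : K, ((c : G) : G ⧸ N) = q then h.choose else 1
  have hσ : ∀ c : K, W.map (single c (1 : Residue hM)) =
      W.map (single (σ ((c : G) : G ⧸ N)) 1) := by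
    intro c
    have hex : ∃ c' : K, ((c' : G) : G ⧸ N) = ((c : G) : G ⧸ N) := ⟨c, rfl⟩
    set r := σ ((c : G) : G ⧸ N) with hr
    have hrc : ((r : G) : G ⧸ N) = ((c : G) : G ⧸ N) := by
      simp only [hr, σ, dif_pos hex]
      exact hex.choose_spec
    have hn : ((c * r⁻¹ : K) : G) ∈ N := by
      rw [← QuotientGroup.eq_one_iff, Subgroup.coe_mul, Subgroup.coe_inv, QuotientGroup.mk_mul,
        QuotientGroup.mk_inv, hrc, mul_inv_cancel]
    calc W.map (single c (1 : Residue hM)) = W.map (single (c * r⁻¹) 1 * single r 1) := by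
          rw [single_mul_single, mul_one, inv_mul_cancel_right]
      _ = _ := by rw [map_mul, hone _ hn, one_mul]
  rw [eq_sum_single' w, map_sum]
  have hterm : ∀ c : K, W.map (single c (w.coeff c)) =
      w.coeff c • W.map (single (σ ((c : G) : G ⧸ N)) 1) := fun c => by
    rw [← hσ, ← map_smul, smul_single', mul_one]
  simp only [hterm]
  haveI : Fintype (G ⧸ N) := Fintype.ofFinite _
  rw [← Finset.sum_fiberwise Finset.univ (fun c : K => ((c : G) : G ⧸ N))]
  refine Finset.sum_eq_zero fun q _ => ?_
  rw [Finset.sum_congr rfl (g := fun c : K => w.coeff c • W.map (single (σ q) (1 : Residue hM)))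
    (fun c hc => by rw [(Finset.mem_filter.1 hc).2]), ← Finset.sum_smul]
  have h1 : ∑ c ∈ Finset.univ.filter (fun c : K => (QuotientGroup.mk (c : G) : G ⧸ N) = q),
      w.coeff c = 0 := by
    have h2 := congrArg (fun y => y.coeff q) hz0
    simp only [coeff_zero, Finsupp.coe_zero, Pi.zero_apply] at h2
    rw [← h2, coeff_push, Finset.sum_filter, Finset.sum_filter,
      ← Fintype.sum_subset (s := Finset.univ.map ⟨((↑) : K → G), Subtype.coe_injective⟩)
        (fun g hg => by
          by_contra hgK
          refine hg ?_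
          split_ifs
          · exact Star.suppIn_incl K w g fun h => hgK (Finset.mem_map.2 ⟨⟨g, h⟩, Finset.mem_univ _, rfl⟩)
          · rfl), Finset.sum_map]
    exact Finset.sum_congr rfl fun c _ => by
      simp only [Function.Embedding.coeFn_mk, Star.coeff_incl]
  rw [h1, zero_smul]

set_option maxHeartbeats 1600000 in
/-- A maximal pair of the block whose regular stabilizers centralize the normal defect group. -/
theorem exists_key (hM : Cfsg.IsPModular p M) {B : Set (Cfsg.IrrCharacter G)}
    (hB : Cfsg.IsPBlock M B) {D : Subgroup G} [D.Normal] (hD : Cfsg.IsDefectGroup p M B D) {d : ℕ}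
    (hd : ∀ χ : Cfsg.IrrCharacter G, χ ∈ B → Cfsg.blockHeight p B (χ : G → ℂ) = 0 →
      Cfsg.charDegree (χ : G → ℂ) = d) :
    ∃ b : Set (Cfsg.IrrCharacter (Subgroup.centralizer (D : Set G))),
      Cfsg.IsMaximalBrauerPair p M B D b ∧
      ∀ x : G, H82.conjPair x ⟨D, b⟩ = ⟨D, b⟩ → ¬ p ∣ orderOf x →
        x ∈ Subgroup.centralizer (D : Set G) := by
  classical
  have hDp : IsPGroup p D := IsPGroup.of_card (H35.card_defectGroup hM hB hD)
  let N := (frattini D).map D.subtype
  haveI : N.Normal := inferInstanceAs ((frattini D).map D.subtype).Normal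
  have hND : N ≤ D := Subgroup.map_subtype_le _
  have hNp : IsPGroup p N := hDp.to_le hND
  haveI : Fintype (G ⧸ N) := Fintype.ofFinite _
  obtain ⟨Bb, hBb, hsub, hdef⟩ := exists_contained hM N hNp hB
  set Db := D.map (QuotientGroup.mk' N) with hDb
  haveI : Db.Normal := Subgroup.Normal.map ‹D.Normal› _ (QuotientGroup.mk'_surjective N)
  have hDbd : Cfsg.IsDefectGroup p M Bb Db := (hdef Db).2 ⟨D, hD, rfl⟩
  have hab : ∀ a ∈ Db, ∀ c ∈ Db, a * c = c * a := by
    intro a ha c hc
    obtain ⟨a, haD, rfl⟩ := Subgroup.mem_map.1 ha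
    obtain ⟨c, hcD, rfl⟩ := Subgroup.mem_map.1 hc
    have h1 : ⁅(⟨a, haD⟩ : D), ⟨c, hcD⟩⁆ ∈ frattini D :=
      PGroups.commutator_le_frattini hDp (Subgroup.commutator_mem_commutator trivial trivial)
    have h2 : a * c * a⁻¹ * c⁻¹ ∈ N := ⟨_, h1, by simp [commutatorElement_def]⟩
    have h3 := (QuotientGroup.eq_one_iff _).2 h2
    simp only [QuotientGroup.mk_mul, QuotientGroup.mk_inv] at h3
    exact mul_inv_eq_iff_eq_mul.1 (mul_inv_eq_one.1 h3)
  have h0 := (BlockBasic.NormalDefect.abelian_iff_heights_zero hM hBb Db hDbd).1 hab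
  -- the exponents agree
  have hexp : minExp p Bb = minExp p B := by
    have e1 := defect_add_minExp hM hB
    have e2 := defect_add_minExp hM hBb
    have c1 := H35.card_defectGroup hM hB hD
    have c2 := H35.card_defectGroup hM hBb hDbd
    have c3 : Nat.card D = Nat.card Db * Nat.card N := by
      have h := Subgroup.card_mul_index (N.subgroupOf D)
      rw [Nat.card_congr (Subgroup.subgroupOfEquivOfLe hND).toEquiv] at h
      have h2 := Subgroup.index_ker ((QuotientGroup.mk' N).comp D.subtype)
      rw [← MonoidHom.comap_ker, QuotientGroup.ker_mk', MonoidHom.range_comp,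
        Subgroup.range_subtype] at h2
      rw [← h, hDb, ← h2, mul_comm]
      rfl
    have c4 : Nat.card G = Nat.card (G ⧸ N) * Nat.card N :=
      Subgroup.card_eq_card_quotient_mul_card_subgroup N
    obtain ⟨j, hj⟩ := IsPGroup.iff_card.1 hNp
    rw [c1, c2, hj, ← pow_add] at c3
    have c3' := Nat.pow_right_injective hp.out.two_le c3
    rw [c4, Nat.factorization_mul Nat.card_pos.ne' Nat.card_pos.ne', Finsupp.add_apply, hj,
      Nat.Prime.factorization_pow hp.out, Finsupp.single_eq_same] at e1
    omega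
  have hdeg : ∀ η : Cfsg.IrrCharacter (G ⧸ N), η ∈ Bb → (η : G ⧸ N → ℂ) 1 = (d : ℂ) := by
    intro η hη
    have hc : Cfsg.charDegree (infl N η : G → ℂ) = Cfsg.charDegree (η : G ⧸ N → ℂ) := by
      refine Nat.cast_injective (R := ℂ) ?_
      rw [← apply_one_eq_charDegree, ← apply_one_eq_charDegree]
      rfl
    have hh : Cfsg.blockHeight p B (infl N η : G → ℂ) = 0 := by
      have f1 := factorization_eq (p := p) hM hη
      have f2 := factorization_eq (p := p) hM (hsub η hη)
      rw [h0 η hη] at f1
      rw [hc] at f2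
      omega
    rw [apply_one_eq_charDegree, ← hc, hd _ (hsub η hη) hh]
  -- a maximal pair of the quotient
  obtain ⟨Pb, fb, hmaxb⟩ := H82.exists_maximal hM hBb
  have hPeq : Pb = Db := by
    obtain ⟨c, hc⟩ := H35.defectGroup_le_conj hM hBb hDbd (S4659.result p M hM Bb Pb fb hmaxb)
    rw [H82.map_conj_eq_of_mem_normalizer (show c ∈ Subgroup.normalizer (Db : Set (G ⧸ N)) by
      rw [Subgroup.normalizer_eq_top]; trivial)] at hc
    refine Subgroup.eq_of_le_of_card_ge hc (le_of_eq ?_)
    rw [H35.card_defectGroup hM hBb hDbd,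
      H35.card_defectGroup hM hBb (S4659.result p M hM Bb Pb fb hmaxb)]
  subst hPeq
  have hfb := hmaxb.1.1.2
  have hCL : ∀ g ∈ Subgroup.centralizer (D : Set G), (g : G ⧸ N) ∈ (Subgroup.centralizer (Db : Set (G ⧸ N))) := by
    intro g hg
    refine Subgroup.mem_centralizer_iff.2 fun a ha => ?_
    obtain ⟨a, haD, rfl⟩ := Subgroup.mem_map.1 ha
    show ((a : G) : G ⧸ N) * g = g * a
    rw [← QuotientGroup.mk_mul, ← QuotientGroup.mk_mul, Subgroup.mem_centralizer_iff.1 hg a haD]
  -- a pair of the block below it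
  have hproj : push N (blockElem B) * H82.blockUp _ fb = H82.blockUp _ fb := by
    cases nonempty_fintype {f : Set (Cfsg.IrrCharacter (Subgroup.centralizer (Db : Set (G ⧸ N)))) // Cfsg.IsPBlock M f}
    have h2 : blockElem Bb * H82.blockUp _ fb = H82.blockUp _ fb := by
      rw [H82.blockElem_eq_sum_blockUp hM _ hmaxb.1.1.1 hBb, Finset.sum_mul,
        Finset.sum_eq_single ⟨fb, hfb⟩ (fun b' _ hne => ?_) (fun h => absurd ?_ h),
        H82.blockUp_mul, Set.inter_self]
      · rw [H82.blockUp_mul, Set.not_nonempty_iff_eq_empty.1 (fun h => hne (Subtype.ext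
          (H82.isPBlock_eq_of_sameBlock hM b'.2 hfb h))), H82.blockUp_empty]
      · exact Finset.mem_filter.2 ⟨Finset.mem_univ _, hmaxb.1⟩
    rw [← h2, ← mul_assoc, push_blockElem, blockElem_mul]
    congr 2
    exact Set.inter_eq_right.2 fun η hη => hsub η hη
  cases nonempty_fintype {f : Set (Cfsg.IrrCharacter (Subgroup.centralizer (D : Set G))) //
    Cfsg.IsPBlock M f}
  have hint : ∀ f : {f : Set (Cfsg.IrrCharacter (Subgroup.centralizer (D : Set G))) //
      Cfsg.IsPBlock M f}, IsIntElt M (push N (H82.blockUp _ f.1) * H82.blockUp _ fb) := fun f =>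
    (isIntElt_push hM N (H82.isIntElt_blockUp hM f.2)).mul hM (H82.isIntElt_blockUp hM hfb)
  have hne : red hM (push N (blockElem B) * H82.blockUp _ fb) ≠ 0 := by
    rw [hproj]
    exact Star.ebar_ne_zero hM _ hfb
  rw [H82.blockElem_eq_sum_blockUp hM D hDp hB, map_sum, Finset.sum_mul,
    red_sum hM _ fun f _ => hint f] at hne
  obtain ⟨b, hb, hbne⟩ := Finset.exists_ne_zero_of_sum_ne_zero hne
  have hbpair := (Finset.mem_filter.1 hb).2
  rw [red_mul hM (isIntElt_push hM N (H82.isIntElt_blockUp hM b.2)) (H82.isIntElt_blockUp hM hfb),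
    red_push hM N (H82.isIntElt_blockUp hM b.2)] at hbne
  set eb := Star.ebar hM (Subgroup.centralizer (D : Set G)) b.1 with heb
  set fbar := Star.ebar hM _ fb with hfbar
  change push N eb * fbar ≠ 0 at hbne
  refine ⟨b.1, H82.isMaximal_of_card hM hbpair (H35.card_defectGroup hM hB hD).ge, ?_⟩
  have hpL : Star.SuppIn (Subgroup.centralizer (Db : Set (G ⧸ N))) (push N eb) := suppIn_push N hCL (Star.suppIn_ebar hM _ _)
  have hfinv : Star.InvBy (Subgroup.centralizer (Db : Set (G ⧸ N))) fbar := Star.invBy_ebar hM _ fb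
  -- the lift of the idempotent
  set u : MonoidAlgebra (Residue hM) G := .ofCoeff (Finsupp.equivFunOnFinite.symm fun g =>
    if g ∈ Subgroup.centralizer (D : Set G) ∧ ¬ p ∣ orderOf g then fbar.coeff (g : G ⧸ N) else 0)
    with hu
  have hucoeff : ∀ g, u.coeff g = if g ∈ Subgroup.centralizer (D : Set G) ∧ ¬ p ∣ orderOf g then
      fbar.coeff (g : G ⧸ N) else 0 := fun g => by simp [hu]
  have husupp : Star.SuppIn (Subgroup.centralizer (D : Set G)) u := fun g hg => by
    rw [hucoeff, if_neg fun h => hg h.1]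
  have huinv : Star.InvBy (Subgroup.centralizer (D : Set G)) u := by
    refine Star.invBy_of_coeff fun h hh g => ?_
    rw [hucoeff, hucoeff]
    refine if_congr (and_congr ?_ (by rw [show orderOf (h * g * h⁻¹) = orderOf g from
      MulEquiv.orderOf_eq (MulAut.conj h) g])) ?_ rfl
    · rw [Subgroup.mul_mem_cancel_right _ (Subgroup.inv_mem _ hh),
        Subgroup.mul_mem_cancel_left _ hh]
    · rw [QuotientGroup.mk_mul, QuotientGroup.mk_mul, QuotientGroup.mk_inv,
        hfinv.coeff_eq (hCL h hh)]
  have hND' : ∀ n ∈ N, ∀ g ∈ Subgroup.centralizer (D : Set G), n * g = g * n := fun n hn g hg =>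
    Subgroup.mem_centralizer_iff.1 hg n (hND hn)
  have hpu : push N u = fbar := by
    apply coeff_injective
    ext q
    rw [coeff_push]
    by_cases hq0 : fbar.coeff q = 0
    · rw [hq0]
      refine Finset.sum_eq_zero fun g hg => ?_
      rw [hucoeff, (Finset.mem_filter.1 hg).2, hq0, ite_self]
    have hqL : q ∈ (Subgroup.centralizer (Db : Set (G ⧸ N))) := by_contra fun h => hq0 (Star.suppIn_ebar hM _ fb q h)
    have hqreg : ¬ p ∣ orderOf q := by
      intro hd
      refine hq0 ?_
      cases nonempty_fintype (Subgroup.centralizer (Db : Set (G ⧸ N)))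
      rw [hfbar, Star.ebar_eq_incl, show q = ((⟨q, hqL⟩ : Subgroup.centralizer (Db : Set (G ⧸ N))) : G ⧸ N) from rfl,
        Star.coeff_incl, coeff_red, coeff_blockElem,
        blockCoeff_eq_zero_of_singular hM hfb (by rwa [← Subgroup.orderOf_coe]), res_zero]
    obtain ⟨h, hh⟩ := QuotientGroup.mk'_surjective N q
    set g₀ := pReg (p := p) h with hg₀
    have hreg₀ : ¬ p ∣ orderOf g₀ := not_dvd_orderOf_pReg h
    have hmk₀ : (g₀ : G ⧸ N) = q := by
      have hq : ((pPart (p := p) h : G) : G ⧸ N) * (g₀ : G ⧸ N) = q := by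
        rw [← QuotientGroup.mk_mul, pPart_mul_pReg]; exact hh
      obtain ⟨k, hk⟩ := exists_orderOf_pPart (p := p) h
      have h5 := orderOf_map_dvd (QuotientGroup.mk' N) (pPart (p := p) h)
      rw [hk] at h5
      obtain ⟨i, -, hi⟩ := (Nat.dvd_prime_pow hp.out).1 h5
      have h6 := pPart_mul_of (p := p) ((commute_pPart_pReg h).map (QuotientGroup.mk' N)) ⟨i, hi⟩
        (fun hd => hreg₀ (hd.trans (orderOf_map_dvd (QuotientGroup.mk' N) g₀)))
      rw [show (QuotientGroup.mk' N) (pPart (p := p) h) * (QuotientGroup.mk' N) (pReg (p := p) h) = q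
        from hq, (pPart_eq_one_iff q).2 hqreg] at h6
      rw [← hq, show ((pPart (p := p) h : G) : G ⧸ N) = 1 from h6.symm, one_mul]
    have hg₀C : g₀ ∈ Subgroup.centralizer (D : Set G) := by
      refine mem_centralizer_of_mod_frattini hDp hreg₀ fun a ha => ?_
      refine (QuotientGroup.eq_one_iff _).1 ?_
      simp only [QuotientGroup.mk_mul, QuotientGroup.mk_inv]
      have hc : (a : G ⧸ N) * (g₀ : G ⧸ N) = (g₀ : G ⧸ N) * a := by
        rw [hmk₀]
        exact Subgroup.mem_centralizer_iff.1 hqL _ (Subgroup.mem_map.2 ⟨a, ha, rfl⟩)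
      rw [← hc]
      rw [mul_inv_cancel_right, mul_inv_cancel]
    rw [Finset.sum_eq_single g₀, hucoeff, if_pos ⟨hg₀C, hreg₀⟩, hmk₀]
    · intro g hg hne'
      rw [hucoeff, if_neg]
      rintro ⟨hgC, hgreg⟩
      refine hne' ?_
      have hn : g * g₀⁻¹ ∈ N := by
        rw [← QuotientGroup.eq_one_iff, QuotientGroup.mk_mul, QuotientGroup.mk_inv,
          (Finset.mem_filter.1 hg).2, hmk₀, mul_inv_cancel]
      have h7 := pPart_mul_of (p := p) (hND' _ hn g₀ hg₀C) (H86.pPow_orderOf hNp hn) hreg₀
      rw [inv_mul_cancel_right, (pPart_eq_one_iff g).2 hgreg] at h7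
      exact mul_inv_eq_one.1 h7.symm
    · intro hnot
      exact absurd (by simpa using hmk₀) hnot
  have hff : fbar * fbar = fbar := Star.ebar_idem hM _ hfb
  haveI : CharP (Residue hM) p :=
    (CharP.charP_iff_prime_eq_zero hp.out).2 (Star.residue_p_eq_zero hM)
  obtain ⟨m, hm⟩ := isNilpotent_of_push_eq_zero hM N hNp hND'
    ((husupp.mul husupp).sub husupp) (by rw [map_sub, map_mul, hpu, hff, sub_self])
  set q := p ^ m with hq
  set U := u ^ q with hU
  have hUU : U * U = U := by
    let φ : Polynomial (Residue hM) →ₐ[Residue hM] MonoidAlgebra (Residue hM) G :=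
      Polynomial.aeval u
    have h : ((Polynomial.X : Polynomial (Residue hM)) * Polynomial.X - Polynomial.X) ^ p ^ m =
        (Polynomial.X * Polynomial.X) ^ p ^ m - Polynomial.X ^ p ^ m := sub_pow_char_pow ..
    have h' := congrArg φ h
    simp only [φ, map_pow, map_sub, map_mul, Polynomial.aeval_X] at h'
    rw [pow_eq_zero_of_le (Nat.lt_pow_self hp.out.one_lt).le hm, eq_comm, sub_eq_zero] at h'
    rw [hU, hq, ← (Commute.refl u).mul_pow, h']
  have hUsi : Star.SuppIn (Subgroup.centralizer (D : Set G)) U ∧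
      Star.InvBy (Subgroup.centralizer (D : Set G)) U := by
    rw [hU]
    clear_value q
    clear hUU hU U hq
    induction q with
    | zero => rw [pow_zero]; exact ⟨Star.SuppIn.one _, Star.InvBy.one _⟩
    | succ q ihq => rw [pow_succ]; exact ⟨ihq.1.mul husupp, ihq.2.mul huinv⟩
  have hUf : push N U = fbar := by
    rw [hU, map_pow, hpu]
    obtain ⟨r, hr⟩ := Nat.exists_eq_succ_of_ne_zero (pow_pos hp.out.pos m).ne'
    rw [hq, hr]
    exact IsIdempotentElem.pow_succ_eq r hff
  have hfe : fbar * push N eb = push N eb := by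
    rcases Star.mul_ebar_eq hM b.2 hUsi.1 hUsi.2 hUU with h1 | h1
    · have h2 := congrArg (push N) h1
      rw [map_mul, map_zero, hUf, ← (hpL.commute hfinv).eq] at h2
      exact absurd h2 hbne
    · have h2 := congrArg (push N) h1
      rwa [map_mul, hUf] at h2
  -- stabilizers
  intro x hx hxreg
  have hxN : x ∈ Subgroup.normalizer (D : Set G) := by
    rw [Subgroup.normalizer_eq_top]; trivial
  have hxb : Star.cj x eb = eb := by
    rw [heb, Star.ebar, ← Star.red_cj, ← Star.cj_blockUp (p := p)]
    exact congrArg (red hM) (Star.blockUp_eq_of_pair_eq hx)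
  have hxN' : (x : G ⧸ N) ∈ Subgroup.normalizer
      (Db : Set (G ⧸ N)) := by
    rw [Subgroup.normalizer_eq_top]; trivial
  have hxf : Star.cj (x : G ⧸ N) fbar * push N eb = push N eb := by
    have h3 := congrArg (Star.cj (x : G ⧸ N)) hfe
    rwa [map_mul, ← push_cj, hxb] at h3
  have hbl := H82.isPBlock_conjSet
    (H82.normalizer_le_normalizer_centralizer _ hxN') hfb
  have heq : H82.conjSet _ (x : G ⧸ N) fb = fb := by
    by_contra hne'
    have h4 : Star.cj (x : G ⧸ N) fbar * fbar = 0 := by
      rw [hfbar, cj_ebar_conjSet hM hxN']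
      exact Star.ebar_mul_of_ne hM _ hbl hfb hne'
    refine hbne ?_
    have h5 : push N eb = 0 := by
      rw [← hxf]
      conv_lhs => rw [← hfe, ← mul_assoc, h4, zero_mul]
    rw [h5, zero_mul]
  have hpair : H82.conjPair (x : G ⧸ N) ⟨_, fb⟩ = ⟨_, fb⟩ := by
    rw [H82.conjPair_of_normalizes fb hxN', heq]
  obtain ⟨hx1, hx2⟩ := (H82.stabilizesBlock_iff_conjPair hM hfb).mpr hpair
  have hcent := mem_centralizer_of_equal_degrees hM hmaxb hab h0 hdeg hx1 hx2
  refine mem_centralizer_of_mod_frattini hDp hxreg fun a ha => ?_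
  refine (QuotientGroup.eq_one_iff _).1 ?_
  simp only [QuotientGroup.mk_mul, QuotientGroup.mk_inv]
  have hc : (a : G ⧸ N) * (x : G ⧸ N) = (x : G ⧸ N) * a :=
    Subgroup.mem_centralizer_iff.1 hcent _ (Subgroup.mem_map.2 ⟨a, ha, rfl⟩)
  rw [← hc]
  rw [mul_inv_cancel_right, mul_inv_cancel]

end Cfsg.Agent.H81.EqualDegrees
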