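import Cfsg.Agent.H81.EqualDegrees.Idem
import Cfsg.Agent.H80.RankOne.Corner
import Cfsg.Agent.H83.StarFree

/-!
The centre of a block with one simple factor and multiplicity free idempotent: it is the corner of
that idempotent, and each of its nonzero ideals contains the reduced conjugate of a character.
-/

set_option linter.style.haveILetI false

open scoped ComplexConjugate

namespace Cfsg.Agent.H81.EqualDegrees

open H83 H83.BlockAlgebra H83.SimpleTrace MonoidAlgebra BlockBasic CharBasic H80.RankOne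

universe u

variable {p : ℕ} [hp : Fact p.Prime] {M : Ideal Cfsg.AlgInt} {G : Type u} [Group G] [Fintype G]
  {B : Set (Cfsg.IrrCharacter G)}

omit hp in
/-- An element of the group algebra invisible to all characters vanishes. -/
theorem eq_zero_of_chiLin (z : MonoidAlgebra ℂ G)
    (h : ∀ (χ : Cfsg.IrrCharacter G) (g : G), chiLin (χ : G → ℂ) (z * single g 1) = 0) : z = 0 := by
  apply coeff_injective
  ext g
  have h1 := Decomp.sum_degree_mul_chiLin (z * single g⁻¹ 1)
  simp only [h, mul_zero, Finset.sum_const_zero, coeff_mul_single_apply, inv_inv, one_mul,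
    mul_one] at h1
  simpa [Nat.card_pos.ne'] using h1.symm

/-- A projection of rank at most one cuts out scalars. -/
theorem exists_smul_of_rank_le_one {V : Type*} [AddCommGroup V] [Module ℂ V]
    [FiniteDimensional ℂ V] {P : Module.End ℂ V} (hP : P * P = P)
    (hr : Module.finrank ℂ (LinearMap.range P) ≤ 1) (X : Module.End ℂ V) :
    ∃ t : ℂ, P * X * P = t • P := by
  obtain ⟨⟨v, hv⟩, hall⟩ := finrank_le_one_iff.1 hr
  obtain ⟨t, ht⟩ := hall ⟨P (X v), ⟨_, rfl⟩⟩
  refine ⟨t, LinearMap.ext fun w => ?_⟩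
  obtain ⟨c, hc⟩ := hall ⟨P w, ⟨_, rfl⟩⟩
  have hc' : c • v = P w := congrArg Subtype.val hc
  have ht' : t • v = P (X v) := congrArg Subtype.val ht
  show P (X (P w)) = t • P w
  rw [← hc', map_smul, map_smul, ← ht', smul_comm]

omit hp in
/-- The corner of a multiplicity free idempotent is commutative. -/
theorem corner_comm {η : MonoidAlgebra ℂ G} (hη : η * η = η)
    (hone : ∀ χ : Cfsg.IrrCharacter G, chiLin (χ : G → ℂ) η = 1 ∨ chiLin (χ : G → ℂ) η = 0)
    (x y : MonoidAlgebra ℂ G) :
    η * x * η * (η * y * η) = η * y * η * (η * x * η) := by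
  refine sub_eq_zero.1 (eq_zero_of_chiLin _ fun χ g => ?_)
  obtain ⟨n, ρ, -, hχ⟩ := χ.2
  have h1 := hone χ
  rw [← hχ, chiLin_eq_trace] at h1 ⊢
  set P := ρ.asAlgebraHom η with hPdef
  have hP : P * P = P := by rw [hPdef, ← map_mul, hη]
  have hproj : LinearMap.IsProj (LinearMap.range P) P := ⟨fun x => ⟨x, rfl⟩, by
    rintro _ ⟨w, rfl⟩
    rw [← Module.End.mul_apply, hP]⟩
  have hr : Module.finrank ℂ (LinearMap.range P) ≤ 1 := by
    rw [hproj.trace] at h1
    rcases h1 with h1 | h1
    · exact le_of_eq (by exact_mod_cast h1)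
    · rw [Nat.cast_eq_zero] at h1
      omega
  obtain ⟨s, hs⟩ := exists_smul_of_rank_le_one hP hr (ρ.asAlgebraHom x)
  obtain ⟨t, ht⟩ := exists_smul_of_rank_le_one hP hr (ρ.asAlgebraHom y)
  simp only [map_mul, map_sub, ← hPdef, hs, ht, smul_mul_assoc, mul_smul_comm]
  rw [smul_comm s t, sub_self, zero_mul, map_zero]

/-- The central elements fixed by `E`. -/
def blockCentre {k A : Type*} [Field k] [Ring A] [Algebra k A] (E : A) : Submodule k A where
  carrier := {z | (∀ w, z * w = w * z) ∧ E * z = z}
  zero_mem' := ⟨fun w => by rw [zero_mul, mul_zero], mul_zero E⟩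
  add_mem' := fun {a b} ha hb => ⟨fun w => by rw [add_mul, mul_add, ha.1, hb.1],
    by rw [mul_add, ha.2, hb.2]⟩
  smul_mem' := fun r z hz => ⟨fun w => by rw [smul_mul_assoc, mul_smul_comm, hz.1],
    by rw [mul_smul_comm, hz.2]⟩

theorem mul_mem_blockCentre {k A : Type*} [Field k] [Ring A] [Algebra k A] {E z w : A}
    (hz : z ∈ blockCentre (k := k) E) (hw : w ∈ blockCentre (k := k) E) :
    z * w ∈ blockCentre (k := k) E :=
  ⟨fun x => by rw [mul_assoc, hw.1, ← mul_assoc, hz.1, mul_assoc],
    by rw [← mul_assoc, hz.2]⟩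

omit hp in
theorem invBy_top_of_comm {R : Type*} [CommRing R] {z : MonoidAlgebra R G}
    (hz : ∀ w, z * w = w * z) (K : Subgroup G) : Star.InvBy K z := fun h _ => by
  rw [Star.cj_eq_single, ← hz, mul_assoc, single_mul_single, mul_inv_cancel, mul_one, ← one_def,
    mul_one]

omit hp in
theorem isCentralElt_lft (hM : Cfsg.IsPModular p M) {z : MonoidAlgebra (Residue hM) G}
    (hz : ∀ w, z * w = w * z) : IsCentralElt (Star.lft hM z) := fun g h =>
  ((invBy_top_of_comm hz ⊤).lft (hM := hM)).coeff_eq (Subgroup.mem_top h) g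

/-- The conjugate of a character as an element of the residue group algebra. -/
noncomputable def conjElem (hM : Cfsg.IsPModular p M) (χ : Cfsg.IrrCharacter G) :
    MonoidAlgebra (Residue hM) G :=
  red hM (ofFun fun g => conj ((χ : G → ℂ) g))

omit hp in
theorem isIntElt_conjFun (hM : Cfsg.IsPModular p M) (χ : Cfsg.IrrCharacter G) :
    IsIntElt M (ofFun fun g => conj ((χ : G → ℂ) g)) := fun g => by
  rw [coeff_ofFun]
  exact memLocalRing_of_isIntegral hM (isIntegral_conj_apply χ g)

omit hp in
theorem coeff_conjElem (hM : Cfsg.IsPModular p M) (χ : Cfsg.IrrCharacter G) (g : G) :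
    (conjElem hM χ).coeff g = res hM ((χ : G → ℂ) g⁻¹) := by
  rw [conjElem, coeff_red, coeff_ofFun, conj_apply_eq_inv]

omit hp in
theorem isCentralElt_conjFun (χ : Cfsg.IrrCharacter G) :
    IsCentralElt (ofFun fun g => conj ((χ : G → ℂ) g)) :=
  isCentralElt_ofFun fun g h => by simp only [IsIrr.isClassFunction χ.2 g h]

omit hp in
/-- Central elements act on the conjugate character by the central character. -/
theorem conjFun_mul (χ : Cfsg.IrrCharacter G) {z : MonoidAlgebra ℂ G} (hz : IsCentralElt z) :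
    (ofFun fun g => conj ((χ : G → ℂ) g)) * z =
      omega (χ : G → ℂ) z • (ofFun fun g => conj ((χ : G → ℂ) g)) := by
  classical
  set S := ofFun fun g => conj ((χ : G → ℂ) g)
  have hS := isCentralElt_conjFun χ
  refine eq_of_omega_eq (hS.mul hz) (hS.smul _) fun ψ => ?_
  rw [omega_mul ψ.2 hS, omega_smul]
  by_cases h : ψ = χ
  · subst h; exact mul_comm _ _
  · have h0 : omega (ψ : G → ℂ) S = 0 := by
      have h1 := classInner_irrCharacter ψ χ
      rw [classInner_def, inv_mul_eq_iff_eq_mul₀ (Nat.cast_ne_zero.2 Nat.card_pos.ne'), if_neg h,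
        mul_zero] at h1
      rw [omega, chiLin, ← h1.symm.trans h1, div_eq_zero_iff]
      left
      rw [← h1]
      exact Finset.sum_congr rfl fun g _ => by rw [coeff_ofFun, mul_comm]
    rw [h0, zero_mul, mul_zero]

omit hp in
theorem conjElem_comm (hM : Cfsg.IsPModular p M) (χ : Cfsg.IrrCharacter G)
    (w : MonoidAlgebra (Residue hM) G) : conjElem hM χ * w = w * conjElem hM χ := by
  rw [conjElem, ← Star.red_lft hM w, ← red_mul hM (isIntElt_conjFun hM χ) (Star.isIntElt_lft hM w),
    isCentralElt_comm (isCentralElt_conjFun χ), red_mul hM (Star.isIntElt_lft hM w) (isIntElt_conjFun hM χ)]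

omit hp in
theorem conjElem_mul (hM : Cfsg.IsPModular p M) (χ : Cfsg.IrrCharacter G)
    {z : MonoidAlgebra ℂ G} (hz : IsCentralElt z) (hzi : IsIntElt M z) :
    conjElem hM χ * red hM z = res hM (omega (χ : G → ℂ) z) • conjElem hM χ := by
  rw [conjElem, ← red_mul hM (isIntElt_conjFun hM χ) hzi, conjFun_mul χ hz]
  apply coeff_injective
  ext g
  rw [coeff_smul_apply, coeff_red, coeff_red, coeff_smul_apply, smul_eq_mul, smul_eq_mul,
    res_mul hM (memLocalRing_omega hM χ.2 hz hzi) (isIntElt_conjFun hM χ g)]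

set_option maxHeartbeats 1600000 in
/-- The centre of the block and its simple socle. -/
theorem centre_structure (hM : Cfsg.IsPModular p M) (hB : Cfsg.IsPBlock M B)
    (W : Model (Residue hM) G) {η : MonoidAlgebra ℂ G} {i : Fin W.num} (hη : η * η = η)
    (hηi : IsIntElt M η) (hin : ∀ χ : Cfsg.IrrCharacter G, χ ∈ B → chiLin (χ : G → ℂ) η = 1)
    (hout : ∀ χ : Cfsg.IrrCharacter G, χ ∉ B → chiLin (χ : G → ℂ) η = 0)
    (hmf : W.map (red hM η) = Decomp.unitAt hM W i)
    (hEi : W.map (red hM (blockElem B)) = Pi.single i 1)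
    {χ₀ : Cfsg.IrrCharacter G} (hχ₀ : χ₀ ∈ B) (hs0 : conjElem hM χ₀ ≠ 0) :
    Module.finrank (Residue hM)
        (blockCentre (k := Residue hM) (red hM (blockElem B))) = Nat.card B ∧
      ∀ z ∈ blockCentre (k := Residue hM) (red hM (blockElem B)), z ≠ 0 →
        ∃ w ∈ blockCentre (k := Residue hM) (red hM (blockElem B)), w * z = conjElem hM χ₀ := by
  classical
  haveI : Module.Finite (Residue hM) (MonoidAlgebra (Residue hM) G) :=
    Module.Finite.of_basis (MonoidAlgebra.basis G (Residue hM))
  have hei := isIntElt_blockElem hM hB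
  set E := red hM (blockElem B) with hE
  have hEE : E * E = E := by rw [hE, ← red_mul hM hei hei, blockElem_idem]
  have hEc : ∀ z, E * z = z * E := H86.PrimeOrder.red_blockElem_comm hM hB
  set f := red hM η with hf
  have hff : f * f = f := by rw [hf, ← red_mul hM hηi hηi, hη]
  have hfE : f * E = f := by
    rw [← hEc, hE, hf, ← red_mul hM hei hηi]
    congr 1
    refine sub_eq_zero.1 (eq_zero_of_chiLin _ fun χ g => ?_)
    rw [sub_mul, chiLin_sub, mul_assoc, chiLin_blockElem_mul]
    split_ifs with hχ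
    · exact sub_self _
    · obtain ⟨n, ρ, -, hρ⟩ := χ.2
      have h0 := hout χ hχ
      rw [← hρ, chiLin_eq_trace] at h0 ⊢
      have hproj : LinearMap.IsProj (LinearMap.range (ρ.asAlgebraHom η)) (ρ.asAlgebraHom η) :=
        ⟨fun x => ⟨x, rfl⟩, by
          rintro _ ⟨w, rfl⟩
          rw [← Module.End.mul_apply, ← map_mul, hη]⟩
      rw [hproj.trace, Nat.cast_eq_zero, Submodule.finrank_eq_zero, LinearMap.range_eq_bot] at h0
      rw [map_mul, h0, zero_mul, map_zero, sub_zero]
  -- the corner
  set A := LinearMap.range (sand (K := Residue hM) f f) with hA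
  have hAmem : ∀ {a}, a ∈ A → f * a = a ∧ a * f = a := by
    rintro _ ⟨z, rfl⟩
    rw [sand_apply]
    constructor
    · rw [← mul_assoc, hff]
    · simp only [mul_assoc, hff]
  have hAof : ∀ {a}, f * a = a → a * f = a → a ∈ A := fun {a} h1 h2 =>
    ⟨a, by rw [sand_apply, h2, h1]⟩
  have hcom : ∀ {a b}, a ∈ A → b ∈ A → a * b = b * a := by
    intro a b ha hb
    have key : ∀ x, f * a = a → a * f = a → x = Star.lft hM a → red hM (η * x * η) = a := by
      intro x h1 h2 hx
      rw [hx, red_mul hM (hηi.mul hM (Star.isIntElt_lft hM a)) hηi,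
        red_mul hM hηi (Star.isIntElt_lft hM a), Star.red_lft, ← hf, h1, h2]
    have ka : red hM (η * Star.lft hM a * η) = a :=
      key _ (hAmem ha).1 (hAmem ha).2 rfl
    have kb : red hM (η * Star.lft hM b * η) = b := by
      rw [red_mul hM (hηi.mul hM (Star.isIntElt_lft hM b)) hηi,
        red_mul hM hηi (Star.isIntElt_lft hM b), Star.red_lft, ← hf, (hAmem hb).1, (hAmem hb).2]
    have hia := (hηi.mul hM (Star.isIntElt_lft hM a)).mul hM hηi
    have hib := (hηi.mul hM (Star.isIntElt_lft hM b)).mul hM hηi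
    rw [← ka, ← kb, ← red_mul hM hia hib, ← red_mul hM hib hia, corner_comm hη fun χ => ?_]
    by_cases hχ : χ ∈ B
    · exact Or.inl (hin χ hχ)
    · exact Or.inr (hout χ hχ)
  have hdimA : Module.finrank (Residue hM) A = Nat.card B := by
    have h := natCast_finrank_corner hM hηi hη
    rw [← hf, ← hA] at h
    refine Nat.cast_injective (R := ℂ) (h.trans ?_)
    rw [Nat.card_eq_fintype_card, Fintype.card_of_subtype (Finset.univ.filter (· ∈ B)) (by simp),
      Finset.card_eq_sum_ones, Nat.cast_sum, Finset.sum_filter]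
    refine Finset.sum_congr rfl fun χ _ => ?_
    split_ifs with hχ
    · rw [hin χ hχ]; simp
    · rw [hout χ hχ]; simp
  -- one simple module
  haveI := W.dim_ne i
  have hcodim : ∀ {a}, a ∈ A → ∃ c : Residue hM, IsNilpotent (a - c • f) := by
    intro a ha
    refine ⟨W.map a i 0 0, W.nil _ ?_⟩
    rw [map_sub, map_smul, hmf, sub_eq_zero]
    conv_lhs => rw [← (hAmem ha).1, ← (hAmem ha).2, map_mul, map_mul, hmf]
    funext l
    by_cases hl : l = i
    · subst hl
      simp only [Decomp.unitAt, Pi.mul_apply, Pi.smul_apply, Pi.single_eq_same]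
      rw [← Matrix.mul_assoc, Matrix.single_mul_mul_single, one_mul, mul_one, Matrix.smul_single,
        smul_eq_mul, mul_one]
    · simp [Decomp.unitAt, Pi.single_eq_of_ne hl]
  -- the block is generated by the idempotent
  obtain ⟨x, hx⟩ : ∃ x : Fin (W.dim i) → MonoidAlgebra (Residue hM) G,
      ∀ a, W.map (x a) = Pi.single i (Matrix.single a 0 1) := ⟨fun a => (W.surj _).choose,
    fun a => (W.surj _).choose_spec⟩
  obtain ⟨y, hy⟩ : ∃ y : Fin (W.dim i) → MonoidAlgebra (Residue hM) G,
      ∀ a, W.map (y a) = Pi.single i (Matrix.single 0 a 1) := ⟨fun a => (W.surj _).choose,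
    fun a => (W.surj _).choose_spec⟩
  set u := ∑ a, x a * f * y a with hu
  set v := u * E - E with hv
  have hvnil : IsNilpotent v := by
    refine W.nil v ?_
    rw [hv, map_sub, map_mul, hEi, hu, map_sum]
    simp only [map_mul, hx, hy, hmf, Decomp.unitAt, ← Pi.single_mul,
      Matrix.single_mul_single_same, one_mul]
    rw [Finset.sum_mul]
    simp only [← Pi.single_mul, mul_one]
    rw [show ∑ a, Pi.single (M := fun l => Matrix (Fin (W.dim l)) (Fin (W.dim l)) (Residue hM)) i
        (Matrix.single a a (1 : Residue hM)) = Pi.single i (∑ a, Matrix.single a a 1) from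
      (map_sum (AddMonoidHom.single
        (fun l => Matrix (Fin (W.dim l)) (Fin (W.dim l)) (Residue hM)) i) _ _).symm, sub_eq_zero]
    refine congrArg (Pi.single (M := fun l => Matrix (Fin (W.dim l)) (Fin (W.dim l)) (Residue hM)) i)
      (Matrix.ext fun a b => ?_)
    rw [Matrix.sum_apply, Matrix.one_apply]
    by_cases hab : a = b
    · subst hab
      rw [if_pos rfl, Finset.sum_eq_single a] <;> simp +contextual
    · rw [if_neg hab]
      refine Finset.sum_eq_zero fun l _ => ?_
      by_cases hl : l = a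
      · subst hl; simp [hab]
      · simp [hl]
  obtain ⟨wu, hw⟩ := hvnil.isUnit_one_add
  have hwE : E * (↑wu⁻¹ : MonoidAlgebra (Residue hM) G) = ↑wu⁻¹ * E := hEc _
  have hvE : E * v = v := by
    rw [hv, mul_sub, hEE, ← mul_assoc, hEc u, mul_assoc, hEE]
  set y' := fun a => y a * E * (↑wu⁻¹ : MonoidAlgebra (Residue hM) G) with hy'
  have hgen : E = ∑ a, x a * f * y' a := by
    have h1 : E * (1 + v) = u * E := by rw [mul_add, mul_one, hvE, hv]; abel
    calc E = E * (1 + v) * ↑wu⁻¹ := by rw [← hw, mul_assoc, Units.mul_inv, mul_one]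
      _ = u * E * ↑wu⁻¹ := by rw [h1]
      _ = _ := by simp only [hy', hu, Finset.sum_mul, mul_assoc]
  have hy'E : ∀ a, y' a * E = y' a := fun a => by
    simp only [hy']
    rw [mul_assoc (y a * E), ← hwE, ← mul_assoc, mul_assoc (y a) E E, hEE]
  set Z := blockCentre (k := Residue hM) E with hZ
  have hEZ : E ∈ Z := ⟨hEc, hEE⟩
  have hzf : ∀ {z}, z ∈ Z → z * f ∈ A := fun {z} hz => hAof
    (by rw [← mul_assoc, ← hz.1, mul_assoc, hff]) (by rw [mul_assoc, hff])
  have hinj : ∀ {z}, z ∈ Z → z * f = 0 → z = 0 := by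
    intro z hz h0
    rw [← hz.2, hgen, Finset.sum_mul]
    refine Finset.sum_eq_zero fun a _ => ?_
    rw [mul_assoc (x a * f), ← hz.1, mul_assoc, ← mul_assoc f, ← hz.1, h0, zero_mul, mul_zero]
  have hfaf : ∀ {a}, a ∈ A → f * a * f = a := fun {a} ha => by
    rw [(hAmem ha).1, (hAmem ha).2]
  have hback : ∀ {a}, a ∈ A → ∃ z ∈ Z, z * f = a := by
    intro a ha
    set ζ := ∑ b, x b * a * y' b with hζ
    have hζE : ζ * E = ζ := by
      simp only [hζ, Finset.sum_mul, mul_assoc, hy'E]
    have hswap : ∀ w b c, x c * f * y' c * w * (x b * a * y' b) =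
        x c * a * y' c * w * (x b * f * y' b) := by
      intro w b c
      have hs : f * (y' c * w * x b) * f * a = a * (f * (y' c * w * x b) * f) :=
        hcom (hAof (by simp only [← mul_assoc, hff]) (by simp only [mul_assoc, hff])) ha
      calc x c * f * y' c * w * (x b * a * y' b)
          = x c * (f * (y' c * w * x b) * (f * a)) * y' b := by
            rw [(hAmem ha).1]; simp only [mul_assoc]
        _ = x c * (f * (y' c * w * x b) * f * a) * y' b := by simp only [mul_assoc]
        _ = x c * (a * f * ((y' c * w * x b) * f)) * y' b := by rw [hs]; simp only [mul_assoc]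
        _ = x c * a * y' c * w * (x b * f * y' b) := by
            rw [(hAmem ha).2]; simp only [mul_assoc]
    have hcent : ∀ w, E * w * ζ = ζ * w * E := fun w => by
      rw [hgen, hζ]
      simp only [Finset.sum_mul, Finset.mul_sum]
      exact Finset.sum_congr rfl fun c _ => Finset.sum_congr rfl fun b _ => hswap w c b
    have hEζ : E * ζ = ζ := by
      have h1 := hcent 1
      rw [mul_one, mul_one, hζE] at h1
      exact h1
    refine ⟨ζ, ⟨fun w => ?_, hEζ⟩, ?_⟩
    · have h1 := hcent w
      rw [hEc w, mul_assoc, hEζ, mul_assoc ζ, ← hEc w, ← mul_assoc, hζE] at h1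
      exact h1.symm
    · have hζc : ∀ w, ζ * w = w * ζ := fun w => by
        have h1 := hcent w
        rw [hEc w, mul_assoc, hEζ, mul_assoc ζ, ← hEc w, ← mul_assoc, hζE] at h1
        exact h1.symm
      calc ζ * f = f * ζ * f := by rw [← hζc f, mul_assoc ζ, hff]
        _ = ∑ b, (f * x b * f) * a * (f * y' b * f) := by
          rw [hζ, Finset.mul_sum, Finset.sum_mul]
          refine Finset.sum_congr rfl fun b _ => ?_
          conv_lhs => rw [← hfaf ha]
          simp only [mul_assoc]
        _ = ∑ b, a * ((f * x b * f) * (f * y' b * f)) := by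
          refine Finset.sum_congr rfl fun b _ => ?_
          rw [hcom (hAof (a := f * x b * f) (by simp only [← mul_assoc, hff])
            (by simp only [mul_assoc, hff])) ha, mul_assoc a]
        _ = a * (f * E * f) := by
          rw [hgen, Finset.mul_sum, Finset.sum_mul, Finset.mul_sum]
          refine Finset.sum_congr rfl fun b _ => congrArg (a * ·) ?_
          simp only [mul_assoc]
          rw [← mul_assoc f f, hff]
        _ = a := by rw [hfE, hff, (hAmem ha).2]
  refine ⟨?_, ?_⟩
  · rw [← hdimA]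
    let T : Z →ₗ[Residue hM] A :=
      { toFun := fun z => ⟨z.1 * f, hzf z.2⟩
        map_add' := fun z w => Subtype.ext (add_mul _ _ _)
        map_smul' := fun r z => Subtype.ext (smul_mul_assoc _ _ _) }
    refine (LinearEquiv.ofBijective T ⟨?_, ?_⟩).finrank_eq
    · intro z w h
      refine Subtype.ext (sub_eq_zero.1 (hinj (sub_mem z.2 w.2) ?_))
      rw [sub_mul, sub_eq_zero]
      exact congrArg Subtype.val h
    · rintro ⟨a, ha⟩
      obtain ⟨z, hz, hza⟩ := hback ha
      exact ⟨⟨z, hz⟩, Subtype.ext hza⟩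
  -- the form
  let t : MonoidAlgebra (Residue hM) G →ₗ[Residue hM] Residue hM :=
    { toFun := fun z => z.coeff 1
      map_add' := fun z z' => by simp
      map_smul' := fun r z => by simp }
  have htsym : ∀ z z', t (z * z') = t (z' * z) := fun z z' => by
    induction z using MonoidAlgebra.induction_linear with
    | zero => simp
    | add a b ha hb => rw [add_mul, mul_add, map_add, map_add, ha, hb]
    | single g r =>
      show (single g r * z').coeff 1 = (z' * single g r).coeff 1
      rw [coeff_single_mul_apply, coeff_mul_single_apply, one_mul, mul_one, mul_comm]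
  have hnd : ∀ {z}, z ∈ Z → (∀ w ∈ Z, t (z * w * f) = 0) → z = 0 := by
    intro z hz h0
    apply coeff_injective
    ext g
    set m := single g⁻¹ (1 : Residue hM) with hm
    have h1 : t (z * m) = 0 := by
      rw [← hz.2, hgen, Finset.sum_mul, Finset.sum_mul, map_sum]
      refine Finset.sum_eq_zero fun b _ => ?_
      obtain ⟨w, hw, hwa⟩ := hback (hAof (a := f * (y' b * m * x b) * f)
        (by simp only [← mul_assoc, hff]) (by simp only [mul_assoc, hff]))
      rw [← h0 w hw, mul_assoc z w f, hwa]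
      calc t (x b * f * y' b * z * m) = t (f * y' b * z * m * x b) := by
            rw [htsym (f * y' b * z * m) (x b)]; simp only [mul_assoc]
        _ = t (f * (f * y' b * z * m * x b)) := by simp only [← mul_assoc, hff]
        _ = t (f * y' b * z * m * x b * f) := htsym _ _
        _ = _ := by
            rw [show f * y' b * z * m * x b * f = (f * y' b) * z * (m * x b * f) by
              simp only [mul_assoc], ← hz.1 (f * y' b)]
            simp only [mul_assoc]
    have h2 : (z * m).coeff 1 = 0 := h1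
    rw [hm, coeff_mul_single_apply, inv_inv, one_mul, mul_one] at h2
    simpa using h2
  set s := conjElem hM χ₀ with hs
  have hsmem : s ∈ Z := by
    refine ⟨conjElem_comm hM χ₀, ?_⟩
    rw [hEc, hE, hs, conjElem_mul hM χ₀ (isCentralElt_blockElem B) hei, omega_blockElem, if_pos hχ₀,
      res_one, one_smul]
  have hskill : ∀ {n}, n ∈ Z → IsNilpotent n → n * s = 0 := by
    intro n hn ⟨N, hN⟩
    obtain ⟨c, hc⟩ : ∃ c : Residue hM, n * s = c • s :=
      ⟨_, by rw [hn.1, hs, ← Star.red_lft hM n,
        conjElem_mul hM χ₀ (isCentralElt_lft hM hn.1) (Star.isIntElt_lft hM n)]⟩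
    have hpow : ∀ m : ℕ, n ^ m * s = c ^ m • s := fun m => by
      induction m with
      | zero => rw [pow_zero, pow_zero, one_mul, one_smul]
      | succ m ih => rw [pow_succ, mul_assoc, hc, mul_smul_comm, ih, smul_smul, pow_succ']
    have h1 := hpow N
    rw [hN, zero_mul, eq_comm, smul_eq_zero] at h1
    rw [hc, (eq_zero_of_pow_eq_zero (h1.resolve_right hs0)), zero_smul]
  have hscal : ∀ {z}, z ∈ Z → ∃ c : Residue hM, IsNilpotent (z - c • E) := by
    intro z hz
    obtain ⟨c, N, hN⟩ := hcodim (hzf hz)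
    refine ⟨c, N + 1, ?_⟩
    have hmem : z - c • E ∈ Z := sub_mem hz (Z.smul_mem c hEZ)
    have hpm : ∀ m : ℕ, (z - c • E) ^ (m + 1) ∈ Z ∧
        (z - c • E) ^ (m + 1) * f = (z * f - c • f) ^ (m + 1) := by
      intro m
      have hb : (z - c • E) * f = z * f - c • f := by
        rw [sub_mul, smul_mul_assoc, hEc f, hfE]
      induction m with
      | zero => simpa using And.intro hmem hb
      | succ m ih =>
        refine ⟨by rw [pow_succ]; exact mul_mem_blockCentre ih.1 hmem, ?_⟩
        rw [pow_succ, pow_succ (z * f - c • f), ← ih.2, ← hb, mul_assoc, mul_assoc,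
          ← mul_assoc f, ← hmem.1 f, mul_assoc (z - c • E) f f, hff]
    refine hinj (hpm N).1 ?_
    rw [(hpm N).2, pow_succ, hN, zero_mul]
  have hsoc : ∀ {z}, z ∈ Z → (∀ n ∈ Z, IsNilpotent n → n * z = 0) →
      t (z * f) • s = t (s * f) • z := by
    intro z hz hkill
    refine sub_eq_zero.1 (hnd (sub_mem (Z.smul_mem _ hsmem) (Z.smul_mem _ hz)) fun w hw => ?_)
    obtain ⟨c, hc⟩ := hscal hw
    have hmem : w - c • E ∈ Z := sub_mem hw (Z.smul_mem c hEZ)
    have h1 : ∀ {y}, y ∈ Z → (w - c • E) * y = 0 → y * w = c • y := by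
      intro y hy h
      rw [← hw.1, ← sub_eq_zero, ← h, sub_mul, smul_mul_assoc, hy.2]
    rw [sub_mul, sub_mul, map_sub, smul_mul_assoc, smul_mul_assoc, smul_mul_assoc, smul_mul_assoc,
      h1 hsmem (hskill hmem hc), h1 hz (hkill _ hmem hc), map_smul, map_smul, smul_mul_assoc,
      smul_mul_assoc, map_smul, map_smul]
    simp only [smul_eq_mul]
    ring
  have hts : t (s * f) ≠ 0 := by
    intro h0
    refine hs0 (hnd hsmem fun w hw => ?_)
    obtain ⟨c, hc⟩ := hscal hw
    have h := hskill (sub_mem hw (Z.smul_mem c hEZ)) hc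
    rw [sub_mul, smul_mul_assoc, hsmem.2, sub_eq_zero, hw.1] at h
    rw [h, smul_mul_assoc, map_smul, h0, smul_zero]
  suffices H : ∀ (m : ℕ) (z : MonoidAlgebra (Residue hM) G), z ∈ Z → z ≠ 0 →
      Module.finrank (Residue hM) (Z.map (LinearMap.mulRight (Residue hM) z)) = m →
      ∃ w ∈ Z, w * z = s from fun z hz hz0 => H _ z hz hz0 rfl
  intro m
  induction m using Nat.strong_induction_on with
  | _ m ih =>
    intro z hz hz0 hm
    by_cases hkill : ∀ n ∈ Z, IsNilpotent n → n * z = 0
    · have h := hsoc hz hkill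
      have hc : t (z * f) ≠ 0 := fun h0 => hz0 (by
        rw [h0, zero_smul, eq_comm, smul_eq_zero] at h
        exact h.resolve_left hts)
      refine ⟨((t (z * f))⁻¹ * t (s * f)) • E, Z.smul_mem _ hEZ, ?_⟩
      rw [smul_mul_assoc, hz.2, mul_smul, ← h, smul_smul, inv_mul_cancel₀ hc, one_smul]
    · push Not at hkill
      obtain ⟨n, hn, hnil, hnz⟩ := hkill
      have hlt : Z.map (LinearMap.mulRight (Residue hM) (n * z)) <
          Z.map (LinearMap.mulRight (Residue hM) z) := by
        refine lt_of_le_not_ge ?_ fun h => ?_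
        · rintro _ ⟨w, hw, rfl⟩
          exact ⟨w * n, mul_mem_blockCentre hw hn, mul_assoc _ _ _⟩
        · obtain ⟨w, hw, hwz⟩ := h (⟨E, hEZ, hz.2⟩ : z ∈ Z.map (LinearMap.mulRight (Residue hM) z))
          replace hwz : w * n * z = z := by rw [mul_assoc]; exact hwz
          obtain ⟨N, hN⟩ := Commute.isNilpotent_mul_left (hw.1 n) hnil
          have hpw : ∀ r : ℕ, (w * n) ^ r * z = z := fun r => by
            induction r with
            | zero => rw [pow_zero, one_mul]
            | succ r ihr => rw [pow_succ, mul_assoc, hwz, ihr]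
          exact hz0 (by rw [← hpw N, hN, zero_mul])
      obtain ⟨w, hw, hws⟩ := ih _ (hm ▸ Submodule.finrank_lt_finrank_of_lt hlt) (n * z)
        (mul_mem_blockCentre hn hz) hnz rfl
      exact ⟨w * n, mul_mem_blockCentre hw hn, by rw [mul_assoc, hws]⟩

omit hp in
/-- The conjugate of a height zero character is visible at a maximal pair. -/
theorem trunc_conjElem_ne_zero [Fact p.Prime] (hM : Cfsg.IsPModular p M) {P : Subgroup G}
    {e : Set (Cfsg.IrrCharacter (Subgroup.centralizer (P : Set G)))}
    (hmax : Cfsg.IsMaximalBrauerPair p M B P e) {χ₀ : Cfsg.IrrCharacter G} (hχ₀ : χ₀ ∈ B)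
    (h0 : Cfsg.blockHeight p B (χ₀ : G → ℂ) = 0) :
    Star.trunc (Subgroup.centralizer (P : Set G)) (conjElem hM χ₀) *
      Star.ebar hM (Subgroup.centralizer (P : Set G)) e ≠ 0 := by
  classical
  intro h
  obtain ⟨c, hc, hne⟩ := Star.exists_tau_maximal (hM := hM) hmax hχ₀ h0
  apply hne
  set y := Star.ebar hM (Subgroup.centralizer (P : Set G)) e * single c 1 with hy
  have hys : Star.SuppIn (Subgroup.centralizer (P : Set G)) y := (Star.suppIn_ebar hM (Subgroup.centralizer (P : Set G)) e).mul (Star.suppIn_single hc 1)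
  have h1 : Star.tau hM (χ₀ : G → ℂ) y = (y * Star.trunc (Subgroup.centralizer (P : Set G)) (conjElem hM χ₀)).coeff 1 := by
    rw [Star.tau, Star.coeff_mul_fintype]
    refine Finset.sum_congr rfl fun g _ => ?_
    by_cases hg : g ∈ (Subgroup.centralizer (P : Set G))
    · rw [mul_one, Star.coeff_trunc, if_pos ((Subgroup.centralizer (P : Set G)).inv_mem hg), coeff_conjElem, inv_inv]
    · rw [hys g hg, zero_mul, zero_mul]
  rw [h1]
  have hinv : Star.InvBy (Subgroup.centralizer (P : Set G)) (Star.trunc (Subgroup.centralizer (P : Set G)) (conjElem hM χ₀)) :=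
    Star.invBy_trunc_centralizer (invBy_top_of_comm (conjElem_comm hM χ₀) (Subgroup.centralizer (P : Set G)))
  rw [hy, mul_assoc, (hinv.commute hc).eq, ← mul_assoc,
    ((Star.suppIn_ebar hM (Subgroup.centralizer (P : Set G)) e).commute hinv).eq, h, zero_mul]
  simp

end Cfsg.Agent.H81.EqualDegrees
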