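import Cfsg.Agent.H83.Decomp
import Cfsg.Agent.CharBasic.Virtual
import Cfsg.Agent.H83.RegInner
import Cfsg.Agent.H83.StarLift
import Cfsg.Agent.H86.PrincipalRegular

/-!
Blocks of height zero characters of one degree: a single simple factor, whose idempotent takes
the value one at every member of the block.
-/

set_option linter.style.haveILetI false

open scoped ComplexConjugate

namespace Cfsg.Agent.H81.EqualDegrees

open H83 H83.BlockAlgebra H83.SimpleTrace MonoidAlgebra BlockBasic CharBasic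

universe u

variable {p : ℕ} [hp : Fact p.Prime] {M : Ideal Cfsg.AlgInt} {G : Type u} [Group G] [Fintype G]
  {B : Set (Cfsg.IrrCharacter G)}

omit hp in
/-- A central idempotent is zero or one in each simple factor. -/
theorem map_eq_zero_or_one {k : Type*} [Field k] (W : Model k G) {E : MonoidAlgebra k G}
    (hEE : E * E = E) (hEc : ∀ z, E * z = z * E) (i : Fin W.num) :
    W.map E i = 0 ∨ W.map E i = 1 := by
  classical
  haveI := W.dim_ne i
  rcases W.central_idem i hEE hEc with h | h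
  · left
    ext a b
    obtain ⟨w, hw⟩ := W.exists_preimage_single i b a
    have h1 := h w
    rw [W.tr_apply, map_mul, hw, Pi.mul_apply, Pi.single_eq_same, Matrix.trace_mul_comm,
      Matrix.trace_single_mul] at h1
    simpa using h1
  · right
    ext a b
    obtain ⟨w, hw⟩ := W.exists_preimage_single i b a
    have h1 := h w
    rw [W.tr_apply, W.tr_apply, map_mul, hw, Pi.mul_apply, Pi.single_eq_same, Matrix.trace_mul_comm,
      Matrix.trace_single_mul] at h1
    rw [Matrix.one_apply]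
    by_cases hab : a = b
    · subst hab
      rw [if_pos rfl]
      simpa [Matrix.trace_single_eq_same] using h1
    · rw [if_neg hab]
      simpa [Matrix.trace_single_eq_of_ne _ _ _ (Ne.symm hab)] using h1

omit hp in
/-- An integral idempotent invisible in the simple factors vanishes. -/
theorem idem_eq_zero_of_map (hM : Cfsg.IsPModular p M) (W : Model (Residue hM) G)
    {η : MonoidAlgebra ℂ G} (hη : η * η = η) (hηi : IsIntElt M η)
    (h : W.map (red hM η) = 0) : η = 0 := by
  obtain ⟨N, hN⟩ := W.nil _ h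
  refine Star.idem_eq_zero_of_ideal hM hηi hη ?_
  have hid : IsIdempotentElem (red hM η) := by
    rw [IsIdempotentElem, ← red_mul hM hηi hηi, hη]
  rw [← hid.pow_succ_eq N, pow_succ, hN, zero_mul]

omit hp [Fintype G] in
theorem chiLin_lincomb [Fintype G] {ι : Type*} (s : Finset ι) (c : ι → ℂ) (f : ι → G → ℂ)
    (z : MonoidAlgebra ℂ G) :
    chiLin (fun g => ∑ j ∈ s, c j * f j g) z = ∑ j ∈ s, c j * chiLin (f j) z := by
  simp only [chiLin, Finset.mul_sum]
  rw [Finset.sum_comm]
  exact Finset.sum_congr rfl fun j _ => Finset.sum_congr rfl fun g _ => by ring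

set_option maxHeartbeats 800000 in
/-- The block has as many characters as its defect group has elements, and one factor. -/
theorem exists_idem (hM : Cfsg.IsPModular p M) (hB : Cfsg.IsPBlock M B)
    (h0 : ∀ χ : Cfsg.IrrCharacter G, χ ∈ B → Cfsg.blockHeight p B (χ : G → ℂ) = 0) {n : ℕ}
    (hn : ∀ χ : Cfsg.IrrCharacter G, χ ∈ B → (χ : G → ℂ) 1 = n) (W : Model (Residue hM) G) :
    Nat.card B = p ^ Cfsg.blockDefect p B ∧
      ∃ (η : MonoidAlgebra ℂ G) (i : Fin W.num), η * η = η ∧ IsIntElt M η ∧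
        (∀ χ : Cfsg.IrrCharacter G, χ ∈ B → chiLin (χ : G → ℂ) η = 1) ∧
        (∀ χ : Cfsg.IrrCharacter G, χ ∉ B → chiLin (χ : G → ℂ) η = 0) ∧
        W.map (red hM η) = Decomp.unitAt hM W i ∧
        W.map (red hM (blockElem B)) = Pi.single i 1 := by
  classical
  haveI : IsAlgClosed (Residue hM) := isAlgClosed_residue hM
  obtain ⟨ε, hε⟩ := Decomp.exists_family (p := p) hM W
  obtain ⟨φ, hφc, hφ, hexp⟩ := Decomp.exists_dual hε
  have hei := isIntElt_blockElem hM hB
  set e := blockElem B with he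
  set E := red hM e with hE
  have hEE : E * E = E := by rw [hE, ← red_mul hM hei hei, blockElem_idem]
  have hEc : ∀ z, E * z = z * E := H86.PrimeOrder.red_blockElem_comm hM hB
  have hec : ∀ z, e * z = z * e := isCentralElt_comm (isCentralElt_blockElem B)
  have hone : ¬ p ∣ orderOf (1 : G) := by
    rw [orderOf_one, Nat.dvd_one]; exact hp.out.ne_one
  -- the family and the block
  have hle : ∀ l, e * ε l * (e * ε l) = e * ε l := fun l => by
    calc e * ε l * (e * ε l) = e * ((ε l * e) * ε l) := by simp only [mul_assoc]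
      _ = e * ((e * ε l) * ε l) := by rw [hec (ε l)]
      _ = (e * e) * (ε l * ε l) := by simp only [mul_assoc]
      _ = e * ε l := by rw [blockElem_idem, (hε l).1]
  have hmapl : ∀ l, W.map (red hM (e * ε l)) = W.map E * Decomp.unitAt hM W l := fun l => by
    rw [red_mul hM hei (hε l).2.1, map_mul, (hε l).2.2]
  have hzero : ∀ l, W.map E l = 0 → e * ε l = 0 := by
    intro l hl
    refine idem_eq_zero_of_map hM W (hle l) (hei.mul hM (hε l).2.1) ?_
    rw [hmapl]
    funext m
    by_cases hm : m = l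
    · subst hm; simp [hl]
    · simp [Decomp.unitAt, Pi.single_eq_of_ne hm]
  have hself : ∀ l, W.map E l = 1 → e * ε l = ε l := by
    intro l hl
    have h1 : (ε l - e * ε l) * (ε l - e * ε l) = ε l - e * ε l := by
      have h2 : ε l * (e * ε l) = e * ε l := by
        rw [← mul_assoc, ← hec, mul_assoc, (hε l).1]
      have h3 : e * ε l * ε l = e * ε l := by rw [mul_assoc, (hε l).1]
      rw [sub_mul, mul_sub, mul_sub, (hε l).1, h2, h3, hle, sub_self, sub_zero]
    refine (sub_eq_zero.1 (idem_eq_zero_of_map hM W h1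
      ((hε l).2.1.sub hM (hei.mul hM (hε l).2.1)) ?_)).symm
    rw [Star.red_sub' hM (hε l).2.1 (hei.mul hM (hε l).2.1), map_sub, hmapl, (hε l).2.2, sub_eq_zero]
    funext m
    by_cases hm : m = l
    · subst hm; simp [hl]
    · simp [Decomp.unitAt, Pi.single_eq_of_ne hm]
  have hdich : ∀ l, e * ε l = ε l ∨ e * ε l = 0 := fun l =>
    (map_eq_zero_or_one W hEE hEc l).elim (fun h => Or.inr (hzero l h))
      fun h => Or.inl (hself l h)
  choose d hd using fun (χ : Cfsg.IrrCharacter G) l => Decomp.exists_nat_chiLin (hε l).1 χ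
  have hchi : ∀ (χ : Cfsg.IrrCharacter G) l, chiLin (χ : G → ℂ) (e * ε l) =
      if χ ∈ B then (d χ l : ℂ) else 0 := fun χ l => by
    rw [he, chiLin_blockElem_mul, hd]
  have hdout : ∀ l, e * ε l = ε l → ∀ χ : Cfsg.IrrCharacter G, χ ∉ B → d χ l = 0 := by
    intro l hl χ hχ
    have h1 := hchi χ l
    rw [hl, if_neg hχ, hd] at h1
    exact_mod_cast h1
  have hdin : ∀ χ : Cfsg.IrrCharacter G, χ ∈ B → ∀ l, d χ l ≠ 0 → e * ε l = ε l := by
    intro χ hχ l hl
    refine (hdich l).resolve_right fun h => hl ?_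
    have h1 := hchi χ l
    rw [h, if_pos hχ] at h1
    simpa [chiLin] using h1.symm
  -- degrees of the duals
  have hdeg : ∀ l, ∃ m : ℕ, 0 < m ∧ φ l 1 = m := by
    intro l
    have h1 : (1 - ε l) * (1 - ε l) = 1 - ε l := IsIdempotentElem.one_sub (hε l).1
    obtain ⟨m, hm⟩ := Decomp.exists_mult hε h1 ((isIntElt_one hM).sub hM (hε l).2.1)
    have h2 := hm _ (hφc l)
    rw [chiLin_sub, chiLin_one, hφ, if_pos rfl, Finset.sum_eq_single l
      (fun j _ hj => by rw [hφ, if_neg (Ne.symm hj), mul_zero]) (by simp), hφ, if_pos rfl,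
      mul_one, sub_eq_iff_eq_add] at h2
    exact ⟨m l + 1, Nat.succ_pos _, by rw [h2]; push_cast; rfl⟩
  choose m hm0 hm using hdeg
  have hn0 : n ≠ 0 := by
    obtain ⟨χ, hχ⟩ := isPBlock_nonempty hM hB
    intro h
    exact irr_one_ne_zero χ.2 (by rw [hn χ hχ, h, Nat.cast_zero])
  have hge : ∀ l, e * ε l = ε l → n ≤ m l := by
    intro l hl
    obtain ⟨c, -, hc⟩ := IsGen.exists_int_mult
      (Decomp.dual_isGeneralized hε hφc hφ l)
    set h : G → ℂ := fun g => ∑ ψ : Cfsg.IrrCharacter G,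
      ((if ψ ∈ B then c ψ else 0 : ℤ) : ℂ) * (ψ : G → ℂ) g with hhdef
    have hhc : Cfsg.IsClassFunction G h := fun g x => by
      simp only [hhdef, fun ψ : Cfsg.IrrCharacter G => IsIrr.isClassFunction ψ.2 g x]
    have hth : ∀ z, chiLin (fun g => φ l (pReg (p := p) g)) z =
        ∑ ψ : Cfsg.IrrCharacter G, (c ψ : ℂ) * chiLin (ψ : G → ℂ) z := fun z => by
      rw [hc, ← chiLin_lincomb]
      congr 1
      funext g
      simp [Finset.sum_apply]
    have hcoef : ∀ j, chiLin h (ε j) = if l = j then 1 else 0 := by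
      intro j
      have e1 : chiLin h (ε j) = chiLin (fun g => φ l (pReg (p := p) g)) (e * ε j) := by
        rw [hth, hhdef, chiLin_lincomb]
        refine Finset.sum_congr rfl fun ψ _ => ?_
        rw [hchi, hd]
        split_ifs <;> simp
      rw [e1]
      rcases hdich j with h' | h'
      · rw [h', ← hφ l j]
        refine Decomp.chiLin_congr_regular (hM := hM) (hε j).1 (hε j).2.1
          (IsGen.isClassFunction (Decomp.dual_isGeneralized hε hφc hφ l)) (hφc l) fun g hg => ?_
        show φ l (pReg (p := p) g) = _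
        rw [pReg, (pPart_eq_one_iff _).2 hg, inv_one, one_mul]
      · rw [h', if_neg fun hlj => Decomp.family_ne_zero hε j (by subst hlj; rw [← hl, h'])]
        simp [chiLin]
    have h1 := hexp h hhc 1 hone
    rw [Finset.sum_eq_single l (fun j _ hj => by rw [hcoef, if_neg (Ne.symm hj), zero_mul])
      (by simp), hcoef, if_pos rfl, one_mul, hm l] at h1
    have h2 : h 1 = ((((n : ℤ) * ∑ ψ : Cfsg.IrrCharacter G, if ψ ∈ B then c ψ else 0) : ℤ) : ℂ) := by
      rw [hhdef]
      push_cast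
      rw [Finset.mul_sum]
      refine Finset.sum_congr rfl fun ψ _ => ?_
      split_ifs with hψ
      · rw [hn ψ hψ]; ring
      · simp
    rw [h2] at h1
    have h3 : (n : ℤ) * (∑ ψ : Cfsg.IrrCharacter G, if ψ ∈ B then c ψ else 0) = m l := by
      exact_mod_cast h1
    exact Nat.le_of_dvd (hm0 l) (Int.natCast_dvd_natCast.1 ⟨_, h3.symm⟩)
  have hJ : ∀ χ : Cfsg.IrrCharacter G, χ ∈ B → ∃ j, ∀ l, d χ l = if l = j then 1 else 0 := by
    intro χ hχ
    have h1 := hexp (χ : G → ℂ) (IsIrr.isClassFunction χ.2) 1 hone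
    simp only [hd, hm, hn χ hχ] at h1
    have h2 : n = ∑ l, d χ l * m l := by exact_mod_cast h1
    obtain ⟨j, hj⟩ : ∃ j, d χ j ≠ 0 := by
      by_contra hc
      push Not at hc
      simp [hc, hn0] at h2
    have hnj := hge j (hdin χ hχ j hj)
    have hsplit := Finset.sum_eq_add_sum_sdiff_singleton_of_mem (s := Finset.univ) (i := j)
      (Finset.mem_univ j) (f := fun l => d χ l * m l)
    beta_reduce at hsplit
    have hd1 : d χ j = 1 := by
      by_contra hne
      have : 2 * n ≤ d χ j * m j := Nat.mul_le_mul (by omega) hnj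
      omega
    rw [hd1, one_mul] at hsplit
    have hrest : ∑ l ∈ Finset.univ \ {j}, d χ l * m l = 0 := by omega
    refine ⟨j, fun l => ?_⟩
    split_ifs with hlj
    · rw [hlj, hd1]
    · have := (Finset.sum_eq_zero_iff.1 hrest) l (by simp [hlj])
      rcases Nat.mul_eq_zero.1 this with h | h
      · exact h
      · exact absurd h (hm0 l).ne'
  obtain ⟨χ₀, hχ₀⟩ := isPBlock_nonempty hM hB
  haveI : Nonempty (Fin W.num) := ⟨(hJ χ₀ hχ₀).choose⟩
  choose! J hJ using hJ
  -- orthogonality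
  have hperp : ∀ l, ∀ x : G, p ∣ orderOf x →
      ∑ χ : Cfsg.IrrCharacter G, (d χ l : ℂ) * (χ : G → ℂ) x = 0 := by
    intro l x hx
    have h1 := card_centralizer_mul_sum_class (ε l) x
    have hI : Cfsg.IsClassFunction G (fun g => if IsConj x g then (1 : ℂ) else 0) := fun g y => by
      have : IsConj x (y * g * y⁻¹) ↔ IsConj x g :=
        ⟨fun hh => hh.trans (isConj_iff.2 ⟨y, rfl⟩).symm, fun hh => hh.trans (isConj_iff.2 ⟨y, rfl⟩)⟩
      simp only [this]
    have h2 := Decomp.chiLin_congr_regular (hM := hM) (hε l).1 (hε l).2.1 hI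
      (h' := fun _ => (0 : ℂ)) (fun _ _ => rfl) fun g hg => by
        rw [if_neg]
        intro hc
        obtain ⟨c, rfl⟩ := isConj_iff.1 hc
        exact hg (by rwa [show orderOf (c * x * c⁻¹) = orderOf x from
          MulEquiv.orderOf_eq (MulAut.conj c) x])
    have h3 : ∑ g with IsConj x g, (ε l).coeff g = 0 := by
      rw [Finset.sum_filter]
      simpa [chiLin] using h2
    have h1' : (0 : ℂ) = ∑ χ : Cfsg.IrrCharacter G, chiLin (χ : G → ℂ) (ε l) *
        conj ((χ : G → ℂ) x) := by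
      rw [← h1, ← mul_zero (Nat.card (Subgroup.centralizer ({x} : Set G)) : ℂ), ← h3]
      congr 1
      exact Finset.sum_congr (Finset.ext fun g => by simp) fun _ _ => rfl
    have h4 := congrArg conj h1'.symm
    simpa [map_sum, map_mul, hd] using h4
  have hreg : ∀ l, ∀ ψ : Cfsg.IrrCharacter G,
      ∑ χ : Cfsg.IrrCharacter G, (d χ l : ℂ) * regInner p χ ψ = d ψ l := by
    intro l ψ
    have hG : (Nat.card G : ℂ) ≠ 0 := Nat.cast_ne_zero.2 Nat.card_pos.ne'
    refine mul_left_cancel₀ hG ?_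
    rw [Finset.mul_sum]
    have h1 : ∀ χ : Cfsg.IrrCharacter G, ∑ x : G, (χ : G → ℂ) x * conj ((ψ : G → ℂ) x) =
        if χ = ψ then (Nat.card G : ℂ) else 0 := fun χ => by
      have h := classInner_irrCharacter χ ψ
      rw [classInner_def, inv_mul_eq_iff_eq_mul₀ hG] at h
      simpa using h
    calc ∑ χ : Cfsg.IrrCharacter G, (Nat.card G : ℂ) * ((d χ l : ℂ) * regInner p χ ψ)
        = ∑ x : G, ∑ χ : Cfsg.IrrCharacter G, (d χ l : ℂ) *
            (if p ∣ orderOf x then 0 else (χ : G → ℂ) x * conj ((ψ : G → ℂ) x)) := by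
          rw [Finset.sum_comm]
          refine Finset.sum_congr rfl fun χ _ => ?_
          rw [mul_left_comm, regInner_eq_sum, Finset.mul_sum]
      _ = ∑ x : G, ∑ χ : Cfsg.IrrCharacter G, (d χ l : ℂ) *
            ((χ : G → ℂ) x * conj ((ψ : G → ℂ) x)) := by
          refine Finset.sum_congr rfl fun x _ => ?_
          by_cases hx : p ∣ orderOf x
          · simp only [if_pos hx, mul_zero, Finset.sum_const_zero]
            rw [← zero_mul (conj ((ψ : G → ℂ) x)), ← hperp l x hx, Finset.sum_mul]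
            exact Finset.sum_congr rfl fun χ _ => mul_assoc _ _ _
          · simp only [if_neg hx]
      _ = (Nat.card G : ℂ) * (d ψ l : ℂ) := by
          rw [Finset.sum_comm]
          simp only [← Finset.mul_sum, h1]
          simp [mul_comm]
  have hval : ∀ χ : Cfsg.IrrCharacter G, χ ∈ B → ∀ g, ¬ p ∣ orderOf g →
      (χ : G → ℂ) g = φ (J χ) g := fun χ hχ g hg => by
    rw [hexp (χ : G → ℂ) (IsIrr.isClassFunction χ.2) g hg]
    simp [hd, hJ χ hχ]
  have hN : ∀ χ : Cfsg.IrrCharacter G, χ ∈ B → ∀ ψ : Cfsg.IrrCharacter G, ψ ∈ B →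
      (Nat.card {θ : Cfsg.IrrCharacter G // θ ∈ B ∧ J θ = J χ} : ℂ) * regInner p χ ψ =
        if J ψ = J χ then 1 else 0 := by
    intro χ hχ ψ hψ
    have h1 := hreg (J χ) ψ
    rw [hJ ψ hψ] at h1
    rw [Nat.card_eq_fintype_card, Fintype.card_subtype, ← nsmul_eq_mul, ← Finset.sum_const,
      Finset.sum_filter]
    refine Eq.trans (Finset.sum_congr rfl fun θ _ => ?_) (h1.trans ?_)
    · by_cases hθ : θ ∈ B
      · by_cases hθJ : J θ = J χ
        · rw [if_pos ⟨hθ, hθJ⟩, hJ θ hθ, if_pos hθJ.symm, Nat.cast_one, one_mul]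
          refine mul_left_cancel₀ (Nat.cast_ne_zero.2 (Nat.card_pos (α := G)).ne' :
            (Nat.card G : ℂ) ≠ 0) ?_
          rw [regInner_eq_sum, regInner_eq_sum]
          refine Finset.sum_congr rfl fun x _ => ?_
          split_ifs with hx
          · rfl
          · rw [hval χ hχ x hx, hval θ hθ x hx, hθJ]
        · rw [if_neg fun h => hθJ h.2, hJ θ hθ, if_neg (Ne.symm hθJ), Nat.cast_zero, zero_mul]
      · rw [if_neg fun h => hθ h.1,
          hdout _ (hdin χ hχ _ (by rw [hJ χ hχ, if_pos rfl]; exact one_ne_zero)) θ hθ,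
          Nat.cast_zero, zero_mul]
    · by_cases hψJ : J ψ = J χ
      · rw [if_pos hψJ, if_pos hψJ.symm, Nat.cast_one]
      · rw [if_neg hψJ, if_neg (Ne.symm hψJ), Nat.cast_zero]
  have hsame : ∀ χ : Cfsg.IrrCharacter G, χ ∈ B → J χ = J χ₀ := by
    intro χ hχ
    by_contra hne
    have h1 := hN χ₀ hχ₀ χ hχ
    rw [if_neg hne, mul_eq_zero, Nat.cast_eq_zero] at h1
    haveI : Nonempty {θ : Cfsg.IrrCharacter G // θ ∈ B ∧ J θ = J χ₀} := ⟨⟨χ₀, hχ₀, rfl⟩⟩
    have h2 := h1.resolve_left Nat.card_pos.ne'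
    refine not_dvd_entry_of_height_zero hM hB hχ₀ (h0 χ₀ hχ₀) hχ ?_
    have h3 : entry p B χ₀ χ = 0 := by
      have := entry_spec hM hB hχ₀ χ
      rw [h2, mul_zero] at this
      exact_mod_cast this
    rw [h3]
    exact dvd_zero _
  set i := J χ₀ with hi
  have hcard : Nat.card B = p ^ Cfsg.blockDefect p B := by
    have hk : Nat.card {θ : Cfsg.IrrCharacter G // θ ∈ B ∧ J θ = J χ₀} = Nat.card B :=
      Nat.card_congr (Equiv.subtypeEquivRight fun θ => ⟨fun h => h.1, fun h => ⟨h, hsame θ h⟩⟩)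
    have h1 := hN χ₀ hχ₀ χ₀ hχ₀
    rw [if_pos rfl, hk] at h1
    have h2 : (Nat.card B : ℤ) * entry p B χ₀ χ₀ = (p : ℤ) ^ Cfsg.blockDefect p B := by
      have h := entry_spec hM hB hχ₀ χ₀
      have : ((Nat.card B : ℂ)) * (entry p B χ₀ χ₀ : ℂ) = (p : ℂ) ^ Cfsg.blockDefect p B := by
        rw [h, mul_left_comm, h1, mul_one]
      exact_mod_cast this
    have h3 := not_dvd_entry_of_height_zero hM hB hχ₀ (h0 χ₀ hχ₀) hχ₀
    rw [h0 χ₀ hχ₀, zero_add, pow_one] at h3
    have hpos := entry_self_pos hM hB hχ₀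
    obtain ⟨a, ha⟩ : ∃ a : ℕ, entry p B χ₀ χ₀ = a := ⟨(entry p B χ₀ χ₀).toNat, by omega⟩
    rw [ha] at h2 h3
    have h4 : Nat.card B * a = p ^ Cfsg.blockDefect p B := by exact_mod_cast h2
    obtain ⟨b, -, hb⟩ := (Nat.dvd_prime_pow hp.out).1 (Dvd.intro_left _ h4)
    rcases b with _ | b
    · rw [hb, pow_zero, mul_one] at h4; exact h4
    · exact absurd (Int.natCast_dvd_natCast.2 (hb ▸ dvd_pow_self p b.succ_ne_zero)) h3
  have hdi : d χ₀ i ≠ 0 := by rw [hJ χ₀ hχ₀, if_pos rfl]; exact one_ne_zero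
  have hiself := hdin χ₀ hχ₀ i hdi
  refine ⟨hcard, ε i, i, (hε i).1, (hε i).2.1, fun χ hχ => ?_, fun χ hχ => ?_, (hε i).2.2, ?_⟩
  · rw [hd, hJ χ hχ, if_pos (hsame χ hχ).symm, Nat.cast_one]
  · rw [hd, hdout i hiself χ hχ, Nat.cast_zero]
  · funext l
    by_cases hl : l = i
    · subst hl
      rw [Pi.single_eq_same]
      refine (map_eq_zero_or_one W hEE hEc _).resolve_left fun h => ?_
      exact Decomp.family_ne_zero hε _ (hiself.symm.trans (hzero _ h))
    · rw [Pi.single_eq_of_ne hl]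
      refine (map_eq_zero_or_one W hEE hEc _).resolve_right fun h => ?_
      have hall : ∀ χ : Cfsg.IrrCharacter G, d χ l = 0 := fun χ => by
        by_cases hχ : χ ∈ B
        · rw [hJ χ hχ, if_neg fun e => hl (e.trans (hsame χ hχ))]
        · exact hdout l (hself l h) χ hχ
      obtain ⟨N, hN0, hNe⟩ := Decomp.exists_nat_pos (hε l).1 (Decomp.family_ne_zero hε l)
      have h5 := Decomp.sum_degree_mul_chiLin (ε l)
      rw [hNe] at h5
      simp [hd, hall] at h5
      exact hN0.ne (by exact_mod_cast h5)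

end Cfsg.Agent.H81.EqualDegrees
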