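import Cfsg.Agent.H81.EqualDegrees.Corner
import Cfsg.Agent.BlockBasic.MaximalPair
import Cfsg.Agent.BlockBasic.CentralDefect
import Cfsg.Agent.H86.BlockInflation

/-!
The centre of a block against the centre of the block of a maximal pair with commutative group:
equal degrees force a trivial inertial quotient.
-/

set_option linter.style.haveILetI false

open scoped ComplexConjugate

namespace Cfsg.Agent.H81.EqualDegrees

open H83 H83.BlockAlgebra MonoidAlgebra BlockBasic CharBasic

universe u

variable {p : ℕ} [hp : Fact p.Prime] {M : Ideal Cfsg.AlgInt} {G : Type u} [Group G] [Fintype G]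
  {B : Set (Cfsg.IrrCharacter G)}

omit hp in
/-- The centre of a block over the residue field is no larger than the block. -/
theorem finrank_blockCentre_le (hM : Cfsg.IsPModular p M) (hB : Cfsg.IsPBlock M B) :
    Module.finrank (Residue hM)
      (blockCentre (k := Residue hM) (red hM (blockElem B))) ≤ Nat.card B := by
  classical
  haveI : Module.Finite (Residue hM) (MonoidAlgebra (Residue hM) G) :=
    Module.Finite.of_basis (MonoidAlgebra.basis G (Residue hM))
  haveI : Module.Finite ℂ (MonoidAlgebra ℂ G) :=
    Module.Finite.of_basis (MonoidAlgebra.basis G ℂ)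
  haveI : Finite (ConjClasses G) := Finite.of_surjective _ ConjClasses.mk_surjective
  haveI : Fintype (ConjClasses G) := Fintype.ofFinite _
  have hei := isIntElt_blockElem hM hB
  set w : G → MonoidAlgebra ℂ G := fun g => classSum g * blockElem B with hw
  refine le_trans ?_ ((H80.RankOne.finrank_span_red_le hM w
    fun g => (isIntElt_classSum hM g).mul hM hei).trans ?_)
  · refine Submodule.finrank_mono fun z hz => ?_
    have hexp : z = ∑ C : ConjClasses G, z.coeff C.out • red hM (classSum C.out) := by
      apply coeff_injective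
      ext g
      simp only [coeff_sum, Finsupp.finsetSum_apply, coeff_smul_apply, coeff_red, classSum,
        coeff_ofFun, smul_eq_mul]
      rw [Finset.sum_eq_single (ConjClasses.mk g)]
      · have hcg : IsConj (ConjClasses.mk g).out g :=
          ConjClasses.mk_eq_mk_iff_isConj.1 (Quotient.out_eq (ConjClasses.mk g))
        rw [if_pos hcg, res_one, mul_one]
        obtain ⟨x, hx⟩ := isConj_iff.1 hcg
        conv_lhs => rw [← hx]
        exact (invBy_top_of_comm hz.1 ⊤).coeff_eq (Subgroup.mem_top x) _
      · intro C _ hC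
        rw [if_neg, res_zero, mul_zero]
        intro h
        exact hC ((Quotient.out_eq C).symm.trans (ConjClasses.mk_eq_mk_iff_isConj.2 h))
      · simp
    rw [← hz.2, ← hz.1, hexp, Finset.sum_mul]
    refine Submodule.sum_mem _ fun C _ => ?_
    rw [smul_mul_assoc]
    refine Submodule.smul_mem _ _ (Submodule.subset_span ⟨C.out, ?_⟩)
    show red hM (classSum C.out * blockElem B) = _
    rw [red_mul hM (isIntElt_classSum hM _) hei]
  · let T : MonoidAlgebra ℂ G →ₗ[ℂ] (B → ℂ) :=
      { toFun := fun z χ => omega ((χ : Cfsg.IrrCharacter G) : G → ℂ) z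
        map_add' := fun z z' => funext fun χ => omega_add _ z z'
        map_smul' := fun c z => funext fun χ => omega_smul _ c z }
    let U : Submodule ℂ (MonoidAlgebra ℂ G) :=
      { carrier := {z | IsCentralElt z ∧
          ∀ χ : Cfsg.IrrCharacter G, χ ∉ B → omega (χ : G → ℂ) z = 0}
        zero_mem' := ⟨fun g h => by simp, fun χ _ => by simp [omega, chiLin]⟩
        add_mem' := fun ha hb => ⟨ha.1.add hb.1, fun χ hχ => by
          rw [omega_add, ha.2 χ hχ, hb.2 χ hχ, add_zero]⟩
        smul_mem' := fun c z hz => ⟨hz.1.smul c, fun χ hχ => by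
          rw [omega_smul, hz.2 χ hχ, mul_zero]⟩ }
    have hinj : Function.Injective (T.domRestrict U) := by
      intro a b h
      refine Subtype.ext (eq_of_omega_eq a.2.1 b.2.1 fun χ => ?_)
      by_cases hχ : χ ∈ B
      · exact congrFun h ⟨χ, hχ⟩
      · rw [a.2.2 χ hχ, b.2.2 χ hχ]
    haveI : Fintype B := Fintype.ofFinite _
    have hU := LinearMap.finrank_le_finrank_of_injective hinj
    rw [Module.finrank_fintype_fun_eq_card, ← Nat.card_eq_fintype_card] at hU
    refine le_trans (Submodule.finrank_mono (Submodule.span_le.2 ?_)) hU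
    rintro _ ⟨g, rfl⟩
    refine ⟨(isCentralElt_classSum g).mul (isCentralElt_blockElem B), fun χ hχ => ?_⟩
    rw [hw, omega_mul χ.2 (isCentralElt_classSum g), omega_blockElem, if_neg hχ, mul_zero]

variable {P : Subgroup G} {e : Set (Cfsg.IrrCharacter (Subgroup.centralizer (P : Set G)))}

/-- The block of a maximal pair with commutative group has at most as many characters as the
group has elements. -/
theorem card_maximal_le (hM : Cfsg.IsPModular p M) (hmax : Cfsg.IsMaximalBrauerPair p M B P e) :
    Nat.card e ≤ Nat.card P := by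
  classical
  have hd := MaximalPair.isDefectGroup_of_maximal hM hmax
  set Z := (P ⊓ Subgroup.centralizer (P : Set G)).subgroupOf (Subgroup.centralizer (P : Set G))
  have hZc := MaximalPair.sup_centralizer_inf P
  haveI : Z.Normal := ⟨fun n hn g => by
    rw [Subgroup.mem_center_iff.1 (hZc hn) g, mul_inv_cancel_right]; exact hn⟩
  have hG : Z ⊔ Subgroup.centralizer (Z : Set (Subgroup.centralizer (P : Set G))) = ⊤ := by
    refine eq_top_iff.2 (le_sup_of_le_right fun c _ => ?_)
    rw [Subgroup.mem_centralizer_iff]
    exact fun z hz => (Subgroup.mem_center_iff.1 (hZc hz) c).symm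
  obtain ⟨θ, hθ, htriv⟩ := H86.exists_trivial_on hM hmax.1.1.2 Z
    ((hmax.1.1.1.to_le inf_le_left).comap_of_injective _ (Subgroup.subtype_injective _))
  rw [CentralDefect.card_eq hM hmax.1.1.2 hG hd hθ htriv]
  refine (Nat.card_le_card_of_surjective _ (ConjClasses.mk_surjective (α := Z))).trans ?_
  exact Nat.card_le_card_of_injective
    (fun z : Z => (⟨((z : Subgroup.centralizer (P : Set G)) : G), (Subgroup.mem_subgroupOf.1 z.2).1⟩ : P))
    fun a b h => by
      have h' := congrArg Subtype.val h
      exact Subtype.ext (Subtype.ext h')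

set_option maxHeartbeats 800000 in
/-- Equal degrees in a block of height zero characters with commutative maximal pair: the inertial
quotient is trivial. -/
theorem mem_centralizer_of_equal_degrees (hM : Cfsg.IsPModular p M)
    (hmax : Cfsg.IsMaximalBrauerPair p M B P e) (hab : ∀ x ∈ P, ∀ y ∈ P, x * y = y * x)
    (h0 : ∀ χ : Cfsg.IrrCharacter G, χ ∈ B → Cfsg.blockHeight p B (χ : G → ℂ) = 0) {n : ℕ}
    (hn : ∀ χ : Cfsg.IrrCharacter G, χ ∈ B → (χ : G → ℂ) 1 = n) {x : G}
    (hxN : x ∈ Subgroup.normalizer (P : Set G))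
    (hxs : Cfsg.StabilizesBlock (Subgroup.centralizer (P : Set G)) e x) :
    x ∈ Subgroup.centralizer (P : Set G) := by
  classical
  haveI : IsAlgClosed (Residue hM) := isAlgClosed_residue hM
  haveI : Module.Finite (Residue hM) (MonoidAlgebra (Residue hM) G) :=
    Module.Finite.of_basis (MonoidAlgebra.basis G (Residue hM))
  have hB := hmax.1.2.1
  have hPp := hmax.1.1.1
  have heP := hmax.1.1.2
  obtain ⟨W⟩ := SimpleTrace.exists_model (k := Residue hM) (G := G)
  obtain ⟨hcard, η, i, hη, hηi, hin, hout, hmf, hEi⟩ := exists_idem hM hB h0 hn W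
  obtain ⟨χ₀, hχ₀, hχ₀0⟩ := exists_height_zero hM hB
  have hts := trunc_conjElem_ne_zero hM hmax hχ₀ hχ₀0
  have hs0 : conjElem hM χ₀ ≠ 0 := fun h => hts (by rw [h, Star.trunc_zero, zero_mul])
  obtain ⟨hdim, hsoc⟩ := centre_structure hM hB W hη hηi hin hout hmf hEi hχ₀ hs0
  set Z := blockCentre (k := Residue hM) (red hM (blockElem B)) with hZ
  have hkP : Nat.card B = Nat.card P := by
    rw [hcard, H35.card_defectGroup hM hB (S4659.result p M hM B P e hmax)]
  -- the local algebra
  haveI : Fintype (Subgroup.centralizer (P : Set G)) := Fintype.ofFinite _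
  haveI : Module.Finite (Residue hM) (MonoidAlgebra (Residue hM) (Subgroup.centralizer (P : Set G))) :=
    Module.Finite.of_basis (MonoidAlgebra.basis _ (Residue hM))
  set ec := red hM (blockElem e) with hec
  set V := blockCentre (k := Residue hM) ec with hV
  have hebar : Star.ebar hM (Subgroup.centralizer (P : Set G)) e = Star.incl _ ec :=
    Star.ebar_eq_incl hM _ e
  have hex : ∀ z : Z, ∃ w : V, Star.incl _ (w : MonoidAlgebra (Residue hM) (Subgroup.centralizer (P : Set G))) =
      Star.trunc (Subgroup.centralizer (P : Set G)) (z : MonoidAlgebra (Residue hM) G) *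
        Star.ebar hM (Subgroup.centralizer (P : Set G)) e := by
    intro z
    have hinv : Star.InvBy (Subgroup.centralizer (P : Set G))
        (Star.trunc (Subgroup.centralizer (P : Set G)) (z : MonoidAlgebra (Residue hM) G) *
          Star.ebar hM (Subgroup.centralizer (P : Set G)) e) :=
      (Star.invBy_trunc_centralizer (invBy_top_of_comm z.2.1 _)).mul (Star.invBy_ebar hM _ e)
    obtain ⟨w, hw⟩ := Star.exists_incl ((Star.suppIn_trunc (Subgroup.centralizer (P : Set G))
      (z : MonoidAlgebra (Residue hM) G)).mul (Star.suppIn_ebar hM (Subgroup.centralizer (P : Set G)) e))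
    refine ⟨⟨w, fun y => Star.incl_injective _ ?_, Star.incl_injective _ ?_⟩, hw⟩
    · rw [map_mul, map_mul, hw]
      exact ((Star.suppIn_incl _ y).commute hinv).eq.symm
    · rw [map_mul, hw, ← hebar]
      rw [← mul_assoc, ((Star.suppIn_ebar hM (Subgroup.centralizer (P : Set G)) e).commute
        (Star.invBy_trunc_centralizer (invBy_top_of_comm z.2.1 _))).eq, mul_assoc,
        Star.ebar_idem hM _ heP]
  choose Ψ hΨ using hex
  have hadd : ∀ z z' : Z, Ψ (z + z') = Ψ z + Ψ z' := fun z z' => by
    refine Subtype.ext (Star.incl_injective _ ?_)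
    rw [hΨ, Submodule.coe_add, Submodule.coe_add, map_add, hΨ, hΨ, Star.trunc_add, add_mul]
  have hsmul : ∀ (c : Residue hM) (z : Z), Ψ (c • z) = c • Ψ z := fun c z => by
    refine Subtype.ext (Star.incl_injective _ ?_)
    rw [hΨ, Submodule.coe_smul, Submodule.coe_smul, Star.trunc_smul, smul_mul_assoc, ← hΨ]
    apply coeff_injective
    ext g
    by_cases hg : g ∈ Subgroup.centralizer (P : Set G)
    · rw [show g = ((⟨g, hg⟩ : Subgroup.centralizer (P : Set G)) : G) from rfl, coeff_smul_apply,
        Star.coeff_incl, Star.coeff_incl, coeff_smul_apply]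
    · rw [coeff_smul_apply, Star.suppIn_incl _ _ g hg, Star.suppIn_incl _ _ g hg, smul_zero]
  let T : Z →ₗ[Residue hM] V := { toFun := Ψ, map_add' := hadd, map_smul' := hsmul }
  have hinj : Function.Injective T := by
    refine (injective_iff_map_eq_zero T).2 fun z hz => ?_
    by_contra hne
    obtain ⟨w, hw, hwz⟩ := hsoc z.1 z.2 (fun h => hne (Subtype.ext h))
    refine hts ?_
    have hzero : Star.trunc (Subgroup.centralizer (P : Set G)) (z : MonoidAlgebra (Residue hM) G) *
        Star.ebar hM (Subgroup.centralizer (P : Set G)) e = 0 := by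
      rw [← hΨ z, show Ψ z = 0 from hz, ZeroMemClass.coe_zero, map_zero]
    rw [← hwz, Star.trunc_mul (Star.residue_p_eq_zero hM) hPp (invBy_top_of_comm hw.1 P)
      (invBy_top_of_comm z.2.1 P), mul_assoc, hzero, mul_zero]
  have hsurj : Function.Surjective T := by
    have h1 := LinearMap.finrank_le_finrank_of_injective hinj
    have h2 : Module.finrank (Residue hM) V ≤ Nat.card P :=
      (finrank_blockCentre_le hM heP).trans (card_maximal_le hM hmax)
    refine (LinearMap.injective_iff_surjective_of_finrank_eq_finrank ?_).1 hinj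
    omega
  -- the elements of P
  have hPC : P ≤ Subgroup.centralizer (P : Set G) := fun y hy =>
    Subgroup.mem_centralizer_iff.2 fun q hq => hab q hq y hy
  have hNC := H82.normalizer_le_normalizer_centralizer P hxN
  have hxmap : (Subgroup.centralizer (P : Set G)).map (MulAut.conj x).toMonoidHom =
      Subgroup.centralizer (P : Set G) := H82.map_conj_eq_of_mem_normalizer hNC
  have hxe : Star.cj x (Star.ebar hM (Subgroup.centralizer (P : Set G)) e) =
      Star.ebar hM (Subgroup.centralizer (P : Set G)) e := by
    have hst := (H82.stabilizesBlock_iff_conjPair hM heP).mp ⟨hxN, hxs⟩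
    rw [Star.ebar, ← Star.red_cj, ← Star.cj_blockUp (p := p)]
    exact congrArg (red hM) (Star.blockUp_eq_of_pair_eq hst)
  refine Subgroup.mem_centralizer_iff.2 fun u hu => ?_
  have hux : x * u * x⁻¹ ∈ P := (Subgroup.mem_normalizer_iff.1 hxN u).1 hu
  -- the image of the element
  have hmem : single (⟨u, hPC hu⟩ : Subgroup.centralizer (P : Set G)) (1 : Residue hM) * ec ∈ V := by
    have hecc : ∀ y, ec * y = y * ec := H86.PrimeOrder.red_blockElem_comm hM heP
    have hsc : ∀ y, single (⟨u, hPC hu⟩ : Subgroup.centralizer (P : Set G)) (1 : Residue hM) * y =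
        y * single (⟨u, hPC hu⟩ : Subgroup.centralizer (P : Set G)) (1 : Residue hM) := by
      intro y
      induction y using MonoidAlgebra.induction_linear with
      | zero => simp
      | add a b ha hb => rw [mul_add, add_mul, ha, hb]
      | single g r =>
        rw [single_mul_single, single_mul_single, mul_comm r]
        congr 1
        exact Subtype.ext (Subgroup.mem_centralizer_iff.1 g.2 u hu)
    refine ⟨fun y => ?_, ?_⟩
    · rw [mul_assoc, hecc, ← mul_assoc, hsc, mul_assoc]
    · rw [← mul_assoc, hecc, mul_assoc, hec,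
        ← red_mul hM (isIntElt_blockElem hM heP) (isIntElt_blockElem hM heP), blockElem_idem]
  obtain ⟨z, hz⟩ := hsurj ⟨_, hmem⟩
  have hz' : Star.trunc (Subgroup.centralizer (P : Set G)) (z : MonoidAlgebra (Residue hM) G) *
      Star.ebar hM (Subgroup.centralizer (P : Set G)) e =
        single u 1 * Star.ebar hM (Subgroup.centralizer (P : Set G)) e := by
    rw [← hΨ z, show Ψ z = ⟨_, hmem⟩ from hz]
    show Star.incl _ (single _ 1 * ec) = _
    rw [map_mul, ← hebar]
    congr 1
    exact MonoidAlgebra.mapDomain_single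
  have hz'' := congrArg (Star.cj x) hz'
  rw [map_mul, map_mul, hxe, Star.cj_trunc, hxmap, invBy_top_of_comm z.2.1 ⊤ x (Subgroup.mem_top x),
    hz', Star.cj_eq_single, single_mul_single, single_mul_single] at hz''
  simp only [one_mul, mul_one] at hz''
  -- separating
  set v := u⁻¹ * (x * u * x⁻¹) with hv
  have hvP : v ∈ P := P.mul_mem (P.inv_mem hu) hux
  have hfix : single v (1 : Residue hM) * Star.ebar hM (Subgroup.centralizer (P : Set G)) e =
      Star.ebar hM (Subgroup.centralizer (P : Set G)) e := by
    rw [hv, ← mul_one (1 : Residue hM), ← single_mul_single, mul_assoc, ← hz'', ← mul_assoc,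
      single_mul_single, inv_mul_cancel, mul_one, ← one_def, one_mul]
  have hreg : ∀ g : G, (Star.ebar hM (Subgroup.centralizer (P : Set G)) e).coeff g ≠ 0 →
      g ∈ Subgroup.centralizer (P : Set G) ∧ ¬ p ∣ orderOf g := by
    intro g hg
    have hgC : g ∈ Subgroup.centralizer (P : Set G) := by
      by_contra h
      exact hg (Star.suppIn_ebar hM _ e g h)
    refine ⟨hgC, fun hd => hg ?_⟩
    rw [hebar, show g = ((⟨g, hgC⟩ : Subgroup.centralizer (P : Set G)) : G) from rfl,
      Star.coeff_incl, hec, coeff_red, coeff_blockElem,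
      blockCoeff_eq_zero_of_singular hM heP (by rwa [← Subgroup.orderOf_coe]), res_zero]
  obtain ⟨g, hg⟩ : ∃ g, (Star.ebar hM (Subgroup.centralizer (P : Set G)) e).coeff g ≠ 0 := by
    by_contra hc
    push Not at hc
    exact Star.ebar_ne_zero hM _ heP (coeff_injective (Finsupp.ext fun g => by simp [hc g]))
  obtain ⟨hgC, hgreg⟩ := hreg g hg
  have hvg : ¬ p ∣ orderOf (v * g) := (hreg _ (by
    have h1 := congrArg (fun y => y.coeff (v * g)) hfix
    simp only [coeff_single_mul_apply, inv_mul_cancel_left, one_mul] at h1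
    rw [← h1]
    exact hg)).2
  have hv1 : v = 1 := by
    have h1 := pPart_mul_of (p := p) (Subgroup.mem_centralizer_iff.1 hgC v hvP)
      (H86.pPow_orderOf hPp hvP) hgreg
    rw [(pPart_eq_one_iff _).2 hvg] at h1
    exact h1.symm
  rw [hv, inv_mul_eq_one] at hv1
  conv_lhs => rw [hv1]
  group

end Cfsg.Agent.H81.EqualDegrees
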