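import Cfsg.Agent.H81.EqualDegrees.Local
import Cfsg.Agent.H82.StarNilpotent
import Cfsg.Agent.H35.Consequences
import Cfsg.Agent.S4687

/-!
Blocks of height zero with commutative defect group: equal degrees and nilpotency.
-/

set_option linter.style.haveILetI false

namespace Cfsg.Agent.H81.EqualDegrees

open H83 BlockBasic CharBasic

universe u

variable {p : ℕ} [hp : Fact p.Prime] {M : Ideal Cfsg.AlgInt} {G : Type u} [Group G] [Fintype G]
  {B : Set (Cfsg.IrrCharacter G)}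

/-- A maximal pair of a block with commutative defect group has a commutative group. -/
theorem comm_of_maximal (hM : Cfsg.IsPModular p M) {D : Subgroup G}
    (hD : Cfsg.IsDefectGroup p M B D) (hDab : IsMulCommutative D) {P : Subgroup G}
    {e : Set (Cfsg.IrrCharacter (Subgroup.centralizer (P : Set G)))}
    (hmax : Cfsg.IsMaximalBrauerPair p M B P e) : ∀ x ∈ P, ∀ y ∈ P, x * y = y * x := by
  obtain ⟨c, hc⟩ := H35.defectGroup_le_conj hM hmax.1.2.1 hD (S4659.result p M hM B P e hmax)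
  intro x hx y hy
  obtain ⟨a, ha, rfl⟩ := Subgroup.mem_map.1 (hc hx)
  obtain ⟨b, hb, rfl⟩ := Subgroup.mem_map.1 (hc hy)
  rw [← map_mul, ← map_mul]
  congr 1
  exact congrArg Subtype.val (hDab.is_comm.comm (⟨a, ha⟩ : D) ⟨b, hb⟩)

/-- The height zero characters of a nilpotent block have the degree of each of them, when they
correspond to linear characters. -/
theorem degree_eq_of_nilpotent (hM : Cfsg.IsPModular p M) {P : Subgroup G}
    {e : Set (Cfsg.IrrCharacter (Subgroup.centralizer (P : Set G)))}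
    (hmax : Cfsg.IsMaximalBrauerPair p M B P e) (hnil : Cfsg.IsNilpotentBlock p M B)
    {χ₀ : Cfsg.IrrCharacter G} (hχ₀ : χ₀ ∈ B) (h00 : Cfsg.blockHeight p B (χ₀ : G → ℂ) = 0)
    {χ : Cfsg.IrrCharacter G} (hχ : χ ∈ B) (hχ0 : Cfsg.blockHeight p B (χ : G → ℂ) = 0) :
    Cfsg.charDegree (χ : G → ℂ) = Cfsg.charDegree (χ₀ : G → ℂ) := by
  obtain ⟨Ψ, -, hrange, hreg⟩ := H82.Star.exists_parametrization hM hmax hnil hχ₀ h00
  obtain ⟨ρ, rfl⟩ : χ ∈ Set.range Ψ := hrange ▸ hχ
  have h1 : ¬ p ∣ orderOf (1 : G) := by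
    rw [orderOf_one, Nat.dvd_one]; exact hp.out.ne_one
  have hdeg := congrFun (hreg ρ) 1
  rw [Pi.smul_apply, smul_eq_mul, pRegularPart_eq_self _ h1, pRegularPart_eq_self _ h1,
    apply_one_eq_charDegree, apply_one_eq_charDegree, ← Nat.cast_mul, Nat.cast_inj] at hdeg
  have hp0 := IsPGroup.iff_card.1 hmax.1.1.1
  have hdvd : Cfsg.charDegree (ρ : P → ℂ) ∣ Nat.card P := BlockBasic.charDegree_dvd ρ
  obtain ⟨k, hk⟩ := hp0
  obtain ⟨j, -, hj⟩ := (Nat.dvd_prime_pow hp.out).1 (hk ▸ hdvd)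
  have e1 := factorization_eq (p := p) hM hχ
  have e2 := factorization_eq (p := p) hM hχ₀
  rw [hdeg, hj, Nat.factorization_mul (pow_ne_zero _ hp.out.ne_zero)
    (charDegree_pos χ₀).ne', Finsupp.add_apply, Nat.Prime.factorization_pow hp.out,
    Finsupp.single_eq_same, e2, h00, hχ0] at e1
  rw [hdeg, hj, show j = 0 by omega, pow_zero, one_mul]

/-- Equal degrees make the block nilpotent. -/
theorem isNilpotentBlock_of_equal_degrees (hM : Cfsg.IsPModular p M) {P : Subgroup G}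
    {e : Set (Cfsg.IrrCharacter (Subgroup.centralizer (P : Set G)))}
    (hmax : Cfsg.IsMaximalBrauerPair p M B P e) (hab : ∀ x ∈ P, ∀ y ∈ P, x * y = y * x)
    (h0 : ∀ χ : Cfsg.IrrCharacter G, χ ∈ B → Cfsg.blockHeight p B (χ : G → ℂ) = 0) {d : ℕ}
    (hd : ∀ χ : Cfsg.IrrCharacter G, χ ∈ B → Cfsg.charDegree (χ : G → ℂ) = d) :
    Cfsg.IsNilpotentBlock p M B :=
  (S4687.result p M hM B P e hmax hab).2 fun _x hxN hxs =>
    mem_centralizer_of_equal_degrees hM hmax hab h0
      (fun χ hχ => by rw [apply_one_eq_charDegree, hd χ hχ]) hxN hxs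

end Cfsg.Agent.H81.EqualDegrees
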